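import Cfsg.Agent.Lib.SmallDegree.PrimeOrder

/-!
# Faithful characters of degree less than `(p - 1) / 2` force a normal Sylow subgroup of order `p`
-/

set_option autoImplicit false

open scoped ComplexConjugate Classical

namespace CfsgLib.SmallDegree

universe u

open CfsgLib.Char

/-- A faithful character of degree less than `(p - 1) / 2` forces a Sylow subgroup of order `p` to
be normal. -/
theorem normal_of_faithful_prime : ∀ (m : ℕ) {G : Type u} [Group G] [Fintype G] {p : ℕ}
    [Fact p.Prime] (P : Sylow p G), Nat.card (P : Subgroup G) = p → Nat.card G = m →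
    ∀ (χ : G → ℂ), Cfsg.IsCharacter G χ → (∀ g : G, χ g = χ 1 → g = 1) →
    2 * degree χ + 1 < p → (P : Subgroup G).Normal := by
  intro m
  induction m using Nat.strong_induction_on with
  | _ m IH =>
  intro G _ _ p _ P hP hm χ hχ hfaith hdeg
  by_cases hK : ∃ K : Subgroup G, K.Normal ∧ K ≠ ⊤ ∧ (P : Subgroup G) ≤ K
  · obtain ⟨K, hKn, hKt, hPK⟩ := hK
    set Q : Sylow p K := P.subtype hPK with hQ
    have hQG : (Q : Subgroup K).map K.subtype = (P : Subgroup G) := by
      ext x
      constructor
      · rintro ⟨y, hy, rfl⟩; exact hy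
      · exact fun hx => ⟨⟨x, hPK hx⟩, hx, rfl⟩
    have hcard : Nat.card K < Nat.card G := by
      have h1 := K.card_mul_index
      have h2 : 2 ≤ K.index := by
        have h3 : K.index ≠ 1 := fun e => hKt (Subgroup.index_eq_one.1 e)
        have h4 : 0 < K.index := Nat.pos_of_ne_zero Subgroup.FiniteIndex.index_ne_zero
        omega
      have : Nat.card K * 2 ≤ Nat.card G := h1 ▸ Nat.mul_le_mul_left _ h2
      have : 0 < Nat.card K := Nat.card_pos
      omega
    have hPcard : Nat.card (Q : Subgroup K) = p := by
      refine Eq.trans ?_ hP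
      rw [← hQG, Nat.card_congr ((Q : Subgroup K).equivMapOfInjective K.subtype
        K.subtype_injective).toEquiv]
    have hdegK : degree (fun k : K => χ k) = degree χ := by simp [degree]
    have hN : (Q : Subgroup K).Normal := IH _ (hm ▸ hcard) Q hPcard rfl (fun k : K => χ k)
      (IsCharacter.restrict hχ K) (fun k hk => Subtype.ext (hfaith k (by simpa using hk)))
      (by rw [hdegK]; exact hdeg)
    have : (Q : Subgroup K).Characteristic := Sylow.characteristic_of_normal Q hN
    rw [← hQG]
    infer_instance
  · push Not at hK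
    have h : Uniform P := uniform_of_card_prime hP
    obtain ⟨c, hc⟩ := IsCharacter.exists_nat_combination hχ
    have hlin : ∀ φ : Cfsg.IrrCharacter G, c φ ≠ 0 → (φ : G → ℂ) 1 = 1 := by
      intro φ hφ
      have hle : degree (φ : G → ℂ) ≤ degree χ := by
        have h1 := congrFun hc 1
        simp only [Finset.sum_apply, Pi.smul_apply, smul_eq_mul,
          ← IsCharacter.degree_cast hχ,
          ← IsCharacter.degree_cast (IsIrrCharacter.isCharacter (Subtype.prop _))] at h1
        have h2 : degree χ = ∑ ψ : Cfsg.IrrCharacter G, c ψ * degree (ψ : G → ℂ) := by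
          exact_mod_cast h1
        rw [h2]
        exact le_trans (Nat.le_mul_of_pos_left _ (Nat.pos_of_ne_zero hφ))
          (Finset.single_le_sum (f := fun ψ : Cfsg.IrrCharacter G => c ψ * degree (ψ : G → ℂ))
            (fun _ _ => Nat.zero_le _) (Finset.mem_univ φ))
      have h1 := h.degree_le_one hP (fun K hKn hKt hKP => hK K hKn hKt hKP) φ (by omega)
      have h2 := IsIrrCharacter.degree_pos φ.2
      rw [← IsCharacter.degree_cast (IsIrrCharacter.isCharacter φ.2),
        show degree (φ : G → ℂ) = 1 by omega, Nat.cast_one]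
    have hcomm : ∀ x y : G, x * y = y * x := by
      intro x y
      have : x * y * x⁻¹ * y⁻¹ = 1 := by
        refine hfaith _ ?_
        rw [hc]
        simp only [Finset.sum_apply, Pi.smul_apply, smul_eq_mul]
        refine Finset.sum_congr rfl fun φ _ => ?_
        by_cases hφ : c φ = 0
        · simp [hφ]
        obtain ⟨f, hf⟩ := IsCharacter.exists_linear (IsIrrCharacter.isCharacter φ.2) (hlin φ hφ)
        rw [hf, hf, map_mul, map_mul, map_mul, map_inv, map_inv, map_one, mul_right_comm (f x) _ _,
          mul_inv_cancel, one_mul, mul_inv_cancel]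
      rwa [mul_inv_eq_one, mul_inv_eq_iff_eq_mul] at this
    exact ⟨fun x hx g => by rw [hcomm g x, mul_inv_cancel_right]; exact hx⟩

/-- Brauer's lower bound for the degree of a faithful character. -/
theorem faithful_degree_bound {G : Type u} [Group G] [Finite G] (p : ℕ) (hp : p.Prime)
    (hdiv : p ∣ Nat.card G) (hsq : ¬ p ^ 2 ∣ Nat.card G)
    (hnn : ∀ H : Subgroup G, H.Normal → Nat.card H ≠ p) (χ : G → ℂ)
    (hχ : Cfsg.IsCharacter G χ) (hfaith : ∀ g : G, χ g = χ 1 → g = 1) :
    p ≤ 2 * degree χ + 1 := by
  have := Fact.mk hp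
  cases nonempty_fintype G
  by_contra hlt
  push Not at hlt
  obtain ⟨P⟩ : Nonempty (Sylow p G) := inferInstance
  have hP : Nat.card (P : Subgroup G) = p := by
    rw [P.card_eq_multiplicity, show (Nat.card G).factorization p = 1 from ?_, pow_one]
    have h1 : 1 ≤ (Nat.card G).factorization p :=
      (hp.dvd_iff_one_le_factorization Nat.card_pos.ne').1 hdiv
    have h2 : ¬ 2 ≤ (Nat.card G).factorization p := fun h2 =>
      hsq ((Nat.Prime.pow_dvd_iff_le_factorization hp Nat.card_pos.ne').2 h2)
    omega
  exact hnn _ (normal_of_faithful_prime _ P hP rfl χ hχ hfaith hlt) hP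

end CfsgLib.SmallDegree
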