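import Cfsg.Agent.Lib.SmallDegree.Main

/-!
# Small degree forces a normal Sylow subgroup
-/

set_option autoImplicit false

open scoped ComplexConjugate Classical

namespace CfsgLib.SmallDegree

universe u

open CfsgLib.Char

variable {G : Type u} [Group G] [Fintype G] {p : ℕ} [Fact p.Prime] {P : Sylow p G}

theorem Uniform.exists_complement_of_idx (h : Uniform P) (he : idx P = 1) :
    ∃ N : Subgroup G, N.Normal ∧ N.index = Nat.card (P : Subgroup G) := by
  have hNC : nor P ≤ cen P := by
    have h1 := Subgroup.index_eq_one.1 he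
    intro n hn
    have : (⟨n, hn⟩ : nor P) ∈ (cen P).subgroupOf (nor P) := by rw [h1]; exact Subgroup.mem_top _
    exact this
  exact ⟨_, inferInstance, (MonoidHom.ker_transferSylow_isComplement' P hNC).symm.index_eq_card⟩

/-- A faithful character of small degree forces `P` to be normal. -/
theorem normal_of_faithful : ∀ (m : ℕ) {G : Type u} [Group G] [Fintype G] {p : ℕ}
    [Fact p.Prime] (P : Sylow p G), Uniform P → Nat.card G = m → ∀ (χ : G → ℂ),
    Cfsg.IsCharacter G χ → (∀ g : G, χ g = χ 1 → g = 1) →
    degree χ ^ 2 + 1 < Nat.card (P : Subgroup G) → (P : Subgroup G).Normal := by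
  intro m
  induction m using Nat.strong_induction_on with
  | _ m IH =>
  intro G _ _ p _ P h hm χ hχ hfaith hdeg
  by_cases hK : ∃ K : Subgroup G, K.Normal ∧ K ≠ ⊤ ∧ (P : Subgroup G) ≤ K
  · obtain ⟨K, hKn, hKt, hPK⟩ := hK
    set Q : Sylow p K := P.subtype hPK with hQ
    have hQG : (Q : Subgroup K).map K.subtype = (P : Subgroup G) := by
      ext x
      constructor
      · rintro ⟨y, hy, rfl⟩; exact hy
      · exact fun hx => ⟨⟨x, hPK hx⟩, hx, rfl⟩
    have hQu : Uniform Q := by
      intro y hy hy1
      have hy' : (y : G) ∈ (P : Subgroup G) := hy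
      have e := h (y : G) hy' (fun e => hy1 (Subtype.ext e))
      ext z
      rw [Subgroup.mem_centralizer_singleton_iff, Subgroup.mem_centralizer_iff]
      have e' : (z : G) * y = (y : G) * z ↔ (z : G) ∈ Subgroup.centralizer ((P : Subgroup G) : Set G) := by
        rw [← e, Subgroup.mem_centralizer_singleton_iff]
      rw [Subgroup.mem_centralizer_iff] at e'
      constructor
      · intro hz w hw
        exact Subtype.ext ((e'.1 (congrArg Subtype.val hz)) (w : G) hw)
      · intro hz
        refine Subtype.ext (e'.2 fun w hw => ?_)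
        exact congrArg Subtype.val (hz ⟨w, hPK hw⟩ hw)
    have hcard : Nat.card K < Nat.card G := by
      have h1 := K.card_mul_index
      have h2 : 2 ≤ K.index := by
        have h3 : K.index ≠ 1 := fun e => hKt (Subgroup.index_eq_one.1 e)
        have h4 : 0 < K.index := Nat.pos_of_ne_zero Subgroup.FiniteIndex.index_ne_zero
        omega
      have : Nat.card K * 2 ≤ Nat.card G := h1 ▸ Nat.mul_le_mul_left _ h2
      have : 0 < Nat.card K := Nat.card_pos
      omega
    have hPcard : Nat.card (Q : Subgroup K) = Nat.card (P : Subgroup G) := by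
      rw [← hQG, Nat.card_congr ((Q : Subgroup K).equivMapOfInjective K.subtype
        K.subtype_injective).toEquiv]
    have hdegK : degree (fun k : K => χ k) = degree χ := by simp [degree]
    have hN : (Q : Subgroup K).Normal := IH _ (hm ▸ hcard) Q hQu rfl (fun k : K => χ k)
      (IsCharacter.restrict hχ K) (fun k hk => Subtype.ext (hfaith k (by simpa using hk)))
      (by rw [hPcard, hdegK]; exact hdeg)
    have : (Q : Subgroup K).Characteristic := Sylow.characteristic_of_normal Q hN
    rw [← hQG]
    infer_instance
  · -- otherwise every constituent is linear, so the group is commutative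
    obtain ⟨c, hc⟩ := IsCharacter.exists_nat_combination hχ
    have hlin : ∀ φ : Cfsg.IrrCharacter G, c φ ≠ 0 → (φ : G → ℂ) 1 = 1 := by
      intro φ hφ
      by_cases hp1 : φ = principalIrr
      · rw [hp1]; simp
      have hle : degree (φ : G → ℂ) ≤ degree χ := by
        have h1 := congrFun hc 1
        simp only [Finset.sum_apply, Pi.smul_apply, smul_eq_mul,
          ← IsCharacter.degree_cast hχ,
          ← IsCharacter.degree_cast (IsIrrCharacter.isCharacter (Subtype.prop _))] at h1
        have h2 : degree χ = ∑ ψ : Cfsg.IrrCharacter G, c ψ * degree (ψ : G → ℂ) := by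
          exact_mod_cast h1
        rw [h2]
        exact le_trans (Nat.le_mul_of_pos_left _ (Nat.pos_of_ne_zero hφ))
          (Finset.single_le_sum (f := fun ψ : Cfsg.IrrCharacter G => c ψ * degree (ψ : G → ℂ))
            (fun _ _ => Nat.zero_le _) (Finset.mem_univ φ))
      rcases h.alternative φ hp1 (lt_of_le_of_lt
        (Nat.add_le_add_right (Nat.pow_le_pow_left hle 2) 1) hdeg) with hK' | ⟨-, h1⟩
      · exact absurd hK' hK
      · rw [← IsCharacter.degree_cast (IsIrrCharacter.isCharacter φ.2), h1, Nat.cast_one]
    have hcomm : ∀ x y : G, x * y = y * x := by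
      intro x y
      have : x * y * x⁻¹ * y⁻¹ = 1 := by
        refine hfaith _ ?_
        rw [hc]
        simp only [Finset.sum_apply, Pi.smul_apply, smul_eq_mul]
        refine Finset.sum_congr rfl fun φ _ => ?_
        by_cases hφ : c φ = 0
        · simp [hφ]
        obtain ⟨f, hf⟩ := IsCharacter.exists_linear (IsIrrCharacter.isCharacter φ.2) (hlin φ hφ)
        rw [hf, hf, map_mul, map_mul, map_mul, map_inv, map_inv, map_one, mul_right_comm (f x) _ _,
          mul_inv_cancel, one_mul, mul_inv_cancel]
      rwa [mul_inv_eq_one, mul_inv_eq_iff_eq_mul] at this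
    exact ⟨fun x hx g => by rw [hcomm g x, mul_inv_cancel_right]; exact hx⟩

end CfsgLib.SmallDegree
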