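import Cfsg.Agent.Lib.SmallDegree.Setting

/-!
# Restriction to the centralizer, grouped by the character of the central Sylow subgroup
-/

set_option autoImplicit false

open scoped ComplexConjugate Classical

namespace CfsgLib.SmallDegree

universe u

open CfsgLib.Char

variable {G : Type u} [Group G] [Fintype G] {p : ℕ} [Fact p.Prime] {P : Sylow p G}

theorem Uniform.apply_mul_incl (h : Uniform P) (η : Cfsg.IrrCharacter (cen P)) (c : cen P)
    (s : (P : Subgroup G)) :
    (η : cen P → ℂ) (c * h.incl s) = (η : cen P → ℂ) c * ((η : cen P → ℂ) (h.incl s) /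
      (η : cen P → ℂ) 1) := by
  have h1 := IsIrrCharacter.apply_one_ne_zero η.2
  have := CharOver.apply_mul_central η.2 (h.incl_central s) c
  field_simp
  linear_combination this

/-- The linear character of `P` under an irreducible character of the centralizer. -/
noncomputable def Uniform.lam (h : Uniform P) (η : Cfsg.IrrCharacter (cen P)) :
    (P : Subgroup G) →* ℂˣ :=
  MonoidHom.toHomUnits
    { toFun := fun s => (η : cen P → ℂ) (h.incl s) / (η : cen P → ℂ) 1
      map_one' := by
        rw [map_one, div_self (IsIrrCharacter.apply_one_ne_zero η.2)]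
      map_mul' := fun s t => by
        rw [map_mul, h.apply_mul_incl η, div_mul_eq_mul_div, mul_div_assoc] }

theorem Uniform.lam_apply (h : Uniform P) (η : Cfsg.IrrCharacter (cen P)) (c : cen P)
    (s : (P : Subgroup G)) :
    (η : cen P → ℂ) (c * h.incl s) = (η : cen P → ℂ) c * (h.lam η s : ℂ) :=
  h.apply_mul_incl η c s

theorem Uniform.apply_incl (h : Uniform P) (η : Cfsg.IrrCharacter (cen P))
    (s : (P : Subgroup G)) :
    (η : cen P → ℂ) (h.incl s) = (η : cen P → ℂ) 1 * (h.lam η s : ℂ) := by
  rw [← h.lam_apply η 1 s, one_mul]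

theorem norm_hom_apply {K : Type*} [Group K] [Finite K] (f : K →* ℂˣ) (s : K) :
    ‖(f s : ℂ)‖ = 1 := by
  refine Complex.norm_eq_one_of_pow_eq_one (n := orderOf s) ?_ (orderOf_pos s).ne'
  rw [← Units.val_pow_eq_pow_val, ← map_pow, pow_orderOf_eq_one, map_one, Units.val_one]

theorem hom_mul_conj {K : Type*} [Group K] [Finite K] (f : K →* ℂˣ) (s : K) :
    (f s : ℂ) * conj (f s : ℂ) = 1 := by
  rw [Complex.mul_conj', norm_hom_apply]; norm_num

/-- Orthogonality of linear characters of `P`. -/
theorem classInner_hom (a b : (P : Subgroup G) →* ℂˣ) :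
    Cfsg.classInner (fun s => (a s : ℂ)) (fun s => (b s : ℂ)) = if a = b then 1 else 0 := by
  rw [classInner_irr (isIrrCharacter_linear a) (isIrrCharacter_linear b)]
  refine if_congr ⟨fun e => MonoidHom.ext fun s => Units.ext (congrFun e s), fun e => by rw [e]⟩
    rfl rfl

/-- The multiplicity of an irreducible character of the centralizer in a restriction. -/
noncomputable def mult (f : G → ℂ) (η : Cfsg.IrrCharacter (cen P)) : ℕ :=
  ⌊(Cfsg.classInner (fun c : cen P => f c) (η : cen P → ℂ)).re⌋₊

theorem mult_cast {f : G → ℂ} (hf : Cfsg.IsCharacter G f) (η : Cfsg.IrrCharacter (cen P)) :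
    (mult f η : ℂ) = Cfsg.classInner (fun c : cen P => f c) (η : cen P → ℂ) := by
  obtain ⟨n, hn⟩ := IsCharacter.exists_nat_classInner (IsCharacter.restrict hf (cen P)) η.2
  simp [mult, hn]

theorem restrict_eq {f : G → ℂ} (hf : Cfsg.IsCharacter G f) (c : cen P) :
    f c = ∑ η : Cfsg.IrrCharacter (cen P), (mult f η : ℂ) * (η : cen P → ℂ) c := by
  have := congrFun (IsCharacter.eq_sum_classInner (IsCharacter.restrict hf (cen P))) c
  simpa [mult_cast hf] using this

/-- The weight of a constituent: multiplicity times degree. -/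
noncomputable def wt (f : G → ℂ) (η : Cfsg.IrrCharacter (cen P)) : ℕ :=
  mult f η * degree (η : cen P → ℂ)

theorem wt_pos {f : G → ℂ} {η : Cfsg.IrrCharacter (cen P)} :
    0 < wt f η ↔ mult f η ≠ 0 := by
  simp [wt, IsIrrCharacter.degree_pos η.2, Nat.pos_iff_ne_zero, (IsIrrCharacter.degree_pos η.2).ne']

theorem sum_wt {f : G → ℂ} (hf : Cfsg.IsCharacter G f) :
    ∑ η : Cfsg.IrrCharacter (cen P), wt f η = degree f := by
  have h1 := restrict_eq hf (1 : cen P)
  rw [OneMemClass.coe_one, ← IsCharacter.degree_cast hf] at h1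
  simp only [← IsCharacter.degree_cast (IsIrrCharacter.isCharacter (Subtype.prop _))] at h1
  exact_mod_cast h1.symm

/-- The characters of `P` occurring in the restriction of `f`. -/
noncomputable def Uniform.supp (h : Uniform P) (f : G → ℂ) :
    Finset ((P : Subgroup G) →* ℂˣ) :=
  (Finset.univ.filter fun η : Cfsg.IrrCharacter (cen P) => mult f η ≠ 0).image h.lam

theorem Uniform.mem_supp (h : Uniform P) {f : G → ℂ} {a : (P : Subgroup G) →* ℂˣ} :
    a ∈ h.supp f ↔ ∃ η, mult f η ≠ 0 ∧ h.lam η = a := by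
  simp [Uniform.supp]

theorem Uniform.card_supp_le (h : Uniform P) {f : G → ℂ} (hf : Cfsg.IsCharacter G f) :
    (h.supp f).card ≤ degree f := by
  refine le_trans Finset.card_image_le ?_
  rw [← sum_wt (P := P) hf, Finset.card_eq_sum_ones]
  refine le_trans (Finset.sum_le_sum fun η hη => ?_)
    (Finset.sum_le_sum_of_subset (Finset.subset_univ _))
  exact wt_pos.2 (Finset.mem_filter.1 hη).2

theorem Uniform.restrict_P (h : Uniform P) {f : G → ℂ} (hf : Cfsg.IsCharacter G f)
    (s : (P : Subgroup G)) :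
    f (s : G) = ∑ η : Cfsg.IrrCharacter (cen P), (wt f η : ℂ) * (h.lam η s : ℂ) := by
  have h1 := restrict_eq hf (h.incl s)
  rw [h.coe_incl] at h1
  rw [h1]
  refine Finset.sum_congr rfl fun η _ => ?_
  rw [h.apply_incl, wt, Nat.cast_mul,
    IsCharacter.degree_cast (IsIrrCharacter.isCharacter η.2), mul_assoc]

theorem Uniform.classInner_P (h : Uniform P) {f : G → ℂ} (hf : Cfsg.IsCharacter G f)
    (a : (P : Subgroup G) →* ℂˣ) :
    Cfsg.classInner (fun s : (P : Subgroup G) => f (s : G)) (fun s => (a s : ℂ)) =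
      ((∑ η ∈ Finset.univ.filter (fun η => h.lam η = a), wt f η : ℕ) : ℂ) := by
  have e : (fun s : (P : Subgroup G) => f (s : G)) =
      ∑ η : Cfsg.IrrCharacter (cen P), (wt f η : ℂ) • fun s => (h.lam η s : ℂ) := by
    funext s
    simp [h.restrict_P hf]
  rw [e, classInner_sum_left, Nat.cast_sum, Finset.sum_filter]
  refine Finset.sum_congr rfl fun η _ => ?_
  rw [classInner_smul_left, classInner_hom]
  split_ifs <;> simp

theorem Uniform.mem_supp_iff_classInner (h : Uniform P) {f : G → ℂ} (hf : Cfsg.IsCharacter G f)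
    (a : (P : Subgroup G) →* ℂˣ) :
    a ∈ h.supp f ↔
      Cfsg.classInner (fun s : (P : Subgroup G) => f (s : G)) (fun s => (a s : ℂ)) ≠ 0 := by
  rw [h.classInner_P hf, Nat.cast_ne_zero, h.mem_supp, ne_eq, Finset.sum_eq_zero_iff]
  simp only [Finset.mem_filter, Finset.mem_univ, true_and, not_forall]
  constructor
  · rintro ⟨η, hη, ha⟩
    exact ⟨η, ha, (wt_pos.2 hη).ne'⟩
  · rintro ⟨η, ha, hη⟩
    exact ⟨η, wt_pos.1 (Nat.pos_of_ne_zero hη), ha⟩

/-- If only the principal character occurs, `P` is in the kernel. -/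
theorem Uniform.apply_eq_of_supp (h : Uniform P) {f : G → ℂ} (hf : Cfsg.IsCharacter G f)
    (hs : h.supp f ⊆ {1}) (s : (P : Subgroup G)) : f (s : G) = f 1 := by
  have h1 := h.restrict_P hf 1
  rw [OneMemClass.coe_one] at h1
  rw [h.restrict_P hf s, h1]
  refine Finset.sum_congr rfl fun η _ => ?_
  by_cases hm : mult f η = 0
  · simp [wt, hm]
  · have := Finset.mem_singleton.1 (hs (h.mem_supp.2 ⟨η, hm, rfl⟩))
    simp [this]

/-- Conjugation of `P` by an element of its normalizer. -/
noncomputable def conjP (n : nor P) : (P : Subgroup G) ≃* (P : Subgroup G) where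
  toFun s := ⟨(n : G) * s * (n : G)⁻¹, (Subgroup.mem_normalizer_iff.1 n.2 s).1 s.2⟩
  invFun s := ⟨(n : G)⁻¹ * s * (n : G), by
    refine (Subgroup.mem_normalizer_iff.1 n.2 _).2 ?_
    simp [mul_assoc]⟩
  left_inv s := Subtype.ext (by simp [mul_assoc])
  right_inv s := Subtype.ext (by simp [mul_assoc])
  map_mul' s t := Subtype.ext (by simp [mul_assoc])

@[simp]
theorem coe_conjP (n : nor P) (s : (P : Subgroup G)) :
    ((conjP n s : (P : Subgroup G)) : G) = (n : G) * s * (n : G)⁻¹ := rfl

theorem Uniform.supp_conj (h : Uniform P) {f : G → ℂ} (hf : Cfsg.IsCharacter G f) (n : nor P)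
    {a : (P : Subgroup G) →* ℂˣ} (ha : a ∈ h.supp f) :
    a.comp (conjP n).toMonoidHom ∈ h.supp f := by
  rw [h.mem_supp_iff_classInner hf] at ha ⊢
  convert ha using 1
  unfold Cfsg.classInner
  congr 1
  refine Fintype.sum_equiv (conjP n).toEquiv _ _ fun s => ?_
  simp [IsCharacter.isClassFunction hf _ _]

theorem mem_cen_of_conjP_fixed (h : Uniform P) (n : nor P) {s : (P : Subgroup G)} (hs : s ≠ 1)
    (he : conjP n s = s) : (n : G) ∈ cen P := by
  rw [cen, ← h (s : G) s.2 (by simpa using hs), Subgroup.mem_centralizer_singleton_iff]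
  have := congrArg (fun z : (P : Subgroup G) => (z : G)) he
  simp only [coe_conjP] at this
  exact mul_inv_eq_iff_eq_mul.1 this

/-- A nonprincipal character of `P` is fixed only by the centralizer. -/
theorem Uniform.eq_one_of_fixed (h : Uniform P) (n : nor P) (hn : (n : G) ∉ cen P)
    {a : (P : Subgroup G) →* ℂˣ} (ha : a.comp (conjP n).toMonoidHom = a) : a = 1 := by
  have hcomm : ∀ x y : (P : Subgroup G), x * y = y * x := fun x y => by
    have := Subgroup.mem_center_iff.1 (h.incl_central x) (h.incl y)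
    exact h.incl_injective (by rw [map_mul, map_mul]; exact this.symm)
  let φ : (P : Subgroup G) →* (P : Subgroup G) :=
    { toFun := fun s => conjP n s * s⁻¹
      map_one' := by simp
      map_mul' := fun x y => by
        simp only [map_mul, mul_inv_rev]
        rw [hcomm y⁻¹ x⁻¹, mul_assoc, ← mul_assoc (conjP n y), hcomm (conjP n y) x⁻¹]
        simp [mul_assoc] }
  have hinj : Function.Injective φ := (injective_iff_map_eq_one φ).2 fun s hs => by
    by_contra hs1
    exact hn (mem_cen_of_conjP_fixed h n hs1 (mul_inv_eq_one.1 hs))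
  have hsurj := Finite.injective_iff_surjective.1 hinj
  ext s
  obtain ⟨t, rfl⟩ := hsurj s
  have h2 : a (conjP n t) = a t := DFunLike.congr_fun ha t
  simp [φ, h2]

/-- An invariant set with a nonprincipal member has at least `|N : C|` of them. -/
theorem Uniform.card_nor_le (h : Uniform P) {f : G → ℂ} (hf : Cfsg.IsCharacter G f)
    {a : (P : Subgroup G) →* ℂˣ} (ha : a ∈ h.supp f) (ha1 : a ≠ 1) :
    ∃ O : Finset ((P : Subgroup G) →* ℂˣ), O ⊆ (h.supp f).erase 1 ∧
      Nat.card (nor P) = O.card * Nat.card (cen P) ∧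
      (∀ c ∈ O, ∃ n : nor P, c = a.comp (conjP n).toMonoidHom) ∧
      ∀ b ∈ (h.supp f).erase 1, b ∉ O → ∀ n : nor P, b.comp (conjP n).toMonoidHom ∉ O := by
  have hcomp : ∀ (n m : nor P) (b : (P : Subgroup G) →* ℂˣ),
      (b.comp (conjP n).toMonoidHom).comp (conjP m).toMonoidHom =
        b.comp (conjP (n * m)).toMonoidHom := fun n m b => MonoidHom.ext fun s => by
    simp only [MonoidHom.comp_apply, MulEquiv.coe_toMonoidHom]
    congr 1
    exact Subtype.ext (by simp [mul_assoc])
  let F : nor P → ((P : Subgroup G) →* ℂˣ) := fun n => a.comp (conjP n).toMonoidHom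
  refine ⟨Finset.univ.image F, ?_, ?_, fun c hc => ?_, ?_⟩
  · intro b hb
    obtain ⟨n, -, rfl⟩ := Finset.mem_image.1 hb
    refine Finset.mem_erase.2 ⟨fun e => ha1 (MonoidHom.ext fun s => ?_), h.supp_conj hf n ha⟩
    obtain ⟨t, rfl⟩ := (conjP n).surjective s
    exact DFunLike.congr_fun e t
  · have hfib : ∀ b ∈ Finset.univ.image F,
        (Finset.univ.filter fun n => F n = b).card = Nat.card (cen P) := by
      intro b hb
      obtain ⟨n₀, -, rfl⟩ := Finset.mem_image.1 hb
      rw [Nat.card_eq_fintype_card, ← Finset.card_univ]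
      symm
      refine Finset.card_bij (fun c _ => (⟨(c : G), h.cen_le_nor c.2⟩ : nor P) * n₀) ?_ ?_ ?_
      · intro c _
        simp only [Finset.mem_filter, Finset.mem_univ, true_and, F, ← hcomp]
        congr 1
        refine MonoidHom.ext fun s => ?_
        simp only [MonoidHom.comp_apply, MulEquiv.coe_toMonoidHom]
        congr 1
        refine Subtype.ext ?_
        simp only [coe_conjP]
        rw [← Subgroup.mem_centralizer_iff.1 c.2 s s.2, mul_inv_cancel_right]
      · intro c _ d _ e
        exact Subtype.ext (congrArg (fun z : nor P => (z : G)) (mul_right_cancel e))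
      · intro n hn
        simp only [Finset.mem_filter, Finset.mem_univ, true_and, F] at hn
        have hfix : a.comp (conjP (n * n₀⁻¹)).toMonoidHom = a := by
          rw [← hcomp, hn, hcomp, mul_inv_cancel]
          exact MonoidHom.ext fun s => congrArg a (Subtype.ext (by simp))
        refine ⟨⟨((n * n₀⁻¹ : nor P) : G), ?_⟩, Finset.mem_univ _, ?_⟩
        · by_contra hc
          exact ha1 (h.eq_one_of_fixed _ hc hfix)
        · exact Subtype.ext (by simp)
    rw [Nat.card_eq_fintype_card, ← Finset.card_univ,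
      Finset.card_eq_sum_card_image F, Finset.sum_congr rfl hfib, Finset.sum_const, smul_eq_mul]
  · obtain ⟨n, -, rfl⟩ := Finset.mem_image.1 hc
    exact ⟨n, rfl⟩
  · intro b _ hb n hn
    obtain ⟨m, -, hm⟩ := Finset.mem_image.1 hn
    refine hb (Finset.mem_image.2 ⟨m * n⁻¹, Finset.mem_univ _, ?_⟩)
    simp only [F] at hm ⊢
    rw [← hcomp, hm, hcomp, mul_inv_cancel]
    exact MonoidHom.ext fun s => congrArg b (Subtype.ext (by simp))

end CfsgLib.SmallDegree
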