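import Cfsg.Agent.Lib.SmallDegree.Main

/-!
# Characters staying irreducible on the normalizer
-/

set_option autoImplicit false

open scoped ComplexConjugate Classical

namespace CfsgLib.SmallDegree

universe u

open CfsgLib.Char

variable {G : Type u} [Group G] [Fintype G] {p : ℕ} [Fact p.Prime] {P : Sylow p G}

/-- The weight of a character of `P` in a restriction. -/
noncomputable def Uniform.weight (h : Uniform P) (f : G → ℂ) (a : (P : Subgroup G) →* ℂˣ) : ℕ :=
  ∑ η ∈ Finset.univ.filter (fun η => h.lam η = a), wt f η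

theorem Uniform.weight_cast (h : Uniform P) {f : G → ℂ} (hf : Cfsg.IsCharacter G f)
    (a : (P : Subgroup G) →* ℂˣ) :
    (h.weight f a : ℂ) =
      Cfsg.classInner (fun s : (P : Subgroup G) => f (s : G)) (fun s => (a s : ℂ)) :=
  (h.classInner_P hf a).symm

theorem Uniform.weight_conj (h : Uniform P) {f : G → ℂ} (hf : Cfsg.IsCharacter G f) (n : nor P)
    (a : (P : Subgroup G) →* ℂˣ) :
    h.weight f (a.comp (conjP n).toMonoidHom) = h.weight f a := by
  have e : Cfsg.classInner (fun s : (P : Subgroup G) => f (s : G))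
      (fun s => ((a.comp (conjP n).toMonoidHom) s : ℂ)) =
      Cfsg.classInner (fun s : (P : Subgroup G) => f (s : G)) (fun s => (a s : ℂ)) := by
    unfold Cfsg.classInner
    congr 1
    refine Fintype.sum_equiv (conjP n).toEquiv _ _ fun s => ?_
    simp [IsCharacter.isClassFunction hf _ _]
  rw [← h.weight_cast hf, ← h.weight_cast hf] at e
  exact_mod_cast e

theorem Uniform.weight_pos_iff (h : Uniform P) {f : G → ℂ} (hf : Cfsg.IsCharacter G f)
    (a : (P : Subgroup G) →* ℂˣ) : h.weight f a ≠ 0 ↔ a ∈ h.supp f := by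
  rw [h.mem_supp_iff_classInner hf, ← h.weight_cast hf, Nat.cast_ne_zero]

theorem Uniform.sum_weight (h : Uniform P) {f : G → ℂ} (hf : Cfsg.IsCharacter G f) :
    ∑ a ∈ h.supp f, h.weight f a = degree f := by
  have h1 : ∀ η : Cfsg.IrrCharacter (cen P), wt f η ≠ 0 → h.lam η ∈ h.supp f := fun η hη =>
    h.mem_supp.2 ⟨η, wt_pos.1 (Nat.pos_of_ne_zero hη), rfl⟩
  rw [← sum_wt (P := P) hf]
  simp only [Uniform.weight, Finset.sum_filter]
  rw [Finset.sum_comm]
  refine Finset.sum_congr rfl fun η _ => ?_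
  rw [Finset.sum_ite_eq]
  split_ifs with h2
  · rfl
  · by_contra hne
    exact h2 (h1 η (Ne.symm hne))

theorem isIrreducible_of_classInner_self {K : Type u} [Group K] [Fintype K] {n : ℕ}
    (σ : Representation ℂ K (Fin n → ℂ)) (h : Cfsg.classInner σ.character σ.character = 1) :
    σ.IsIrreducible := by
  rcases trichotomy σ with hs | hi | ⟨W, W', hc, hW, hW'⟩
  · exfalso
    have : σ.character = 0 := funext fun g => by
      rw [Representation.character, Subsingleton.elim (σ g) 0, map_zero]; rfl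
    rw [this, classInner_zero_left] at h
    exact zero_ne_one h
  · exact hi
  · exfalso
    have hsum := character_eq_add σ W W' hc
    have hWc := isCharacter_character W.toRepresentation
    have hWc' := isCharacter_character W'.toRepresentation
    have hfin := Submodule.finrank_add_eq_of_isCompl hc
    obtain ⟨a, ha⟩ := IsCharacter.exists_nat_classInner' hWc hWc
    obtain ⟨b, hb⟩ := IsCharacter.exists_nat_classInner' hWc' hWc'
    obtain ⟨c, hcc⟩ := IsCharacter.exists_nat_classInner' hWc hWc'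
    obtain ⟨d, hd⟩ := IsCharacter.exists_nat_classInner' hWc' hWc
    rw [hsum, classInner_add_left, classInner_add_right, classInner_add_right, ha, hb, hcc, hd] at h
    have hne : ∀ {f : K → ℂ}, Cfsg.IsCharacter K f → Cfsg.classInner f f = 0 → f 1 = 0 := by
      intro f hf h0
      obtain ⟨m, rfl⟩ := IsCharacter.exists_nat_combination hf
      rw [classInner_sum_smul_sum_smul] at h0
      simp only [Complex.conj_natCast, ← Nat.cast_mul, ← Nat.cast_sum, Nat.cast_eq_zero,
        Finset.sum_eq_zero_iff, mul_eq_zero, or_self] at h0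
      simp [h0]
    have ha1 : a ≠ 0 := fun e => by
      have := hne hWc (by rw [ha, e, Nat.cast_zero])
      rw [Representation.char_one, Nat.cast_eq_zero] at this
      omega
    have hb1 : b ≠ 0 := fun e => by
      have := hne hWc' (by rw [hb, e, Nat.cast_zero])
      rw [Representation.char_one, Nat.cast_eq_zero] at this
      omega
    have : a + c + (d + b) = 1 := by exact_mod_cast h
    omega

/-- The projection onto the part of a representation of `G` of type `b` on `P`. -/
noncomputable def proj {W : Type*} [AddCommGroup W] [Module ℂ W] (ρ : Representation ℂ G W)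
    (b : (P : Subgroup G) →* ℂˣ) : W →ₗ[ℂ] W :=
  ∑ s : (P : Subgroup G), ((b s⁻¹ : ℂˣ) : ℂ) • ρ (s : G)

theorem trace_proj (h : Uniform P) {n : ℕ} (ρ : Representation ℂ G (Fin n → ℂ))
    (b : (P : Subgroup G) →* ℂˣ) :
    LinearMap.trace ℂ _ (proj ρ b) =
      (Nat.card (P : Subgroup G) : ℂ) * h.weight ρ.character b := by
  rw [h.weight_cast ⟨n, ρ, rfl⟩, Cfsg.classInner, ← mul_assoc,
    mul_inv_cancel₀ (Nat.cast_ne_zero.2 Nat.card_pos.ne'), one_mul, proj, map_sum]
  refine Finset.sum_congr rfl fun s _ => ?_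
  rw [map_smul, smul_eq_mul, mul_comm, map_inv, Units.val_inv_eq_inv_val]
  congr 1
  exact inv_eq_of_mul_eq_one_right (hom_mul_conj b s)

theorem proj_mul_proj {W : Type*} [AddCommGroup W] [Module ℂ W] (ρ : Representation ℂ G W)
    {a b : (P : Subgroup G) →* ℂˣ} (hab : a ≠ b) : proj ρ a * proj ρ b = 0 := by
  have hs : ∀ s : (P : Subgroup G), ρ (s : G) * proj ρ b = ((b s : ℂˣ) : ℂ) • proj ρ b := by
    intro s
    rw [proj, Finset.mul_sum, Finset.smul_sum]
    refine Fintype.sum_equiv (Equiv.mulLeft s) _ _ fun t => ?_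
    rw [mul_smul_comm, ← map_mul, smul_smul, Equiv.coe_mulLeft, mul_inv_rev, map_mul b,
      Units.val_mul, map_inv b s, Units.val_inv_eq_inv_val, mul_left_comm,
      mul_inv_cancel₀ (Units.ne_zero _), mul_one]
    rfl
  rw [proj, Finset.sum_mul]
  simp only [smul_mul_assoc, hs, smul_smul, ← Finset.sum_smul]
  have h1 : ∑ s : (P : Subgroup G), ((a s⁻¹ : ℂˣ) : ℂ) * (b s : ℂ) = 0 := by
    obtain ⟨t, ht⟩ : ∃ t, a t ≠ b t := by
      by_contra hcon
      push Not at hcon
      exact hab (MonoidHom.ext hcon)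
    set S := ∑ s : (P : Subgroup G), ((a s⁻¹ : ℂˣ) : ℂ) * (b s : ℂ) with hS
    have h2 : ((a t : ℂˣ) : ℂ) * S = (b t : ℂ) * S := by
      rw [hS, Finset.mul_sum, Finset.mul_sum]
      refine Fintype.sum_equiv (Equiv.mulRight t⁻¹) _ _ fun s => ?_
      simp only [Equiv.coe_mulRight, mul_inv_rev, inv_inv, map_mul, map_inv, Units.val_mul,
        Units.val_inv_eq_inv_val]
      field_simp
    by_contra hne
    exact ht (Units.ext (mul_right_cancel₀ hne h2))
  rw [h1, zero_smul]

/-- A character irreducible on the normalizer and nonconstant on `P` has one orbit of characters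
of `P`. -/
theorem Uniform.supp_eq_orbit (h : Uniform P) {f : G → ℂ} (hf : Cfsg.IsCharacter G f)
    (hirr : Cfsg.IsIrrCharacter (nor P) (fun n : nor P => f n))
    {a : (P : Subgroup G) →* ℂˣ} (ha : a ∈ h.supp f) (ha1 : a ≠ 1) :
    1 ∉ h.supp f ∧ (h.supp f).card = idx P ∧ ∀ b ∈ h.supp f, h.weight f b = h.weight f a := by
  obtain ⟨n, ρ, rfl⟩ := id hf
  obtain ⟨O, hO, hc, horb, hdis⟩ := h.card_nor_le hf ha ha1
  have hOc : O.card = idx P := by
    rw [h.card_nor] at hc
    exact (Nat.eq_of_mul_eq_mul_right Nat.card_pos hc).symm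
  let σ : Representation ℂ (nor P) (Fin n → ℂ) := ρ.comp (nor P).subtype
  have hσ : σ.IsIrreducible := by
    obtain ⟨m, τ, hτ, hτc⟩ := hirr
    have hχ : Cfsg.classInner σ.character σ.character = 1 := by
      have : σ.character = fun x : nor P => ρ.character x := rfl
      rw [this, ← hτc]
      exact classInner_irr_self ⟨m, τ, hτ, rfl⟩
    exact isIrreducible_of_classInner_self σ hχ
  let W : Submodule ℂ (Fin n → ℂ) := ⨆ b ∈ O, LinearMap.range (proj ρ b)
  have hclosed : ∀ b ∈ O, ∀ m : nor P, b.comp (conjP m).toMonoidHom ∈ O := by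
    intro b hb m
    by_contra hcon
    have hb' := hO hb
    have hbm : b.comp (conjP m).toMonoidHom ∈ (h.supp ρ.character).erase 1 := by
      obtain ⟨hb1, hbs⟩ := Finset.mem_erase.1 hb'
      refine Finset.mem_erase.2 ⟨fun e => hb1 (MonoidHom.ext fun s => ?_), h.supp_conj hf m hbs⟩
      obtain ⟨t, rfl⟩ := (conjP m).surjective s
      exact DFunLike.congr_fun e t
    refine hdis _ hbm hcon m⁻¹ ?_
    convert hb using 1
    refine MonoidHom.ext fun s => congrArg b (Subtype.ext ?_)
    simp [mul_assoc]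
  have hWinv : ∀ g : nor P, ∀ v ∈ W, σ g v ∈ W := by
    intro g
    suffices W ≤ W.comap (σ g) from fun v hv => this hv
    refine iSup₂_le fun b hb => ?_
    rintro _ ⟨v, rfl⟩
    have key : σ g * proj ρ b = proj ρ (b.comp (conjP g⁻¹).toMonoidHom) * σ g := by
      simp only [proj, Finset.mul_sum, Finset.sum_mul, mul_smul_comm, smul_mul_assoc]
      refine Fintype.sum_equiv (conjP g).toEquiv _ _ fun s => ?_
      change _ • (ρ (g : G) * ρ (s : G)) = _ • (ρ ((conjP g s : (P : Subgroup G)) : G) * ρ (g : G))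
      rw [← map_mul, ← map_mul]
      congr 2
      · simp only [MonoidHom.comp_apply, MulEquiv.coe_toMonoidHom]
        congr 1
        exact Subtype.ext (by simp [mul_assoc])
      · simp [mul_assoc]
    have h2 : σ g (proj ρ b v) = proj ρ (b.comp (conjP g⁻¹).toMonoidHom) (σ g v) :=
      congrArg (fun T => T v) key
    rw [Submodule.mem_comap, h2]
    exact Submodule.mem_iSup_of_mem _ (Submodule.mem_iSup_of_mem (hclosed b hb g⁻¹) ⟨_, rfl⟩)
  have hnone : ∀ b, b ∈ h.supp ρ.character → proj ρ b ≠ 0 := by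
    intro b hb e
    have h1 := trace_proj h ρ b
    rw [e, map_zero, eq_comm, mul_eq_zero] at h1
    rcases h1 with h1 | h1
    · exact Nat.card_pos.ne' (Nat.cast_eq_zero.1 h1)
    · exact (h.weight_pos_iff hf b).2 hb (Nat.cast_eq_zero.1 h1)
  have haO : a ∈ O := by
    have hne : O.Nonempty := by
      rw [← Finset.card_pos, hOc]
      exact Nat.pos_of_ne_zero Subgroup.FiniteIndex.index_ne_zero
    obtain ⟨c, hcO⟩ := hne
    obtain ⟨m, rfl⟩ := horb c hcO
    convert hclosed _ hcO m⁻¹ using 1
    refine MonoidHom.ext fun s => congrArg a (Subtype.ext ?_)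
    simp [mul_assoc]
  have hWtop : W = ⊤ := by
    refine ((CharKernel.eq_bot_or_eq_top σ W hWinv).resolve_left fun e => ?_)
    refine hnone a ha (LinearMap.range_eq_bot.1 (eq_bot_iff.2 ?_))
    rw [← e]
    exact le_iSup₂ (f := fun b (_ : b ∈ O) => LinearMap.range (proj ρ b)) a haO
  have hsub : h.supp ρ.character ⊆ O := by
    intro b hb
    by_contra hbO
    refine hnone b hb (LinearMap.ext fun v => ?_)
    have hv : v ∈ W := hWtop ▸ Submodule.mem_top
    have : W ≤ LinearMap.ker (proj ρ b) := by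
      refine iSup₂_le fun c hc => ?_
      rintro _ ⟨u, rfl⟩
      exact congrArg (fun T => T u) (proj_mul_proj ρ (fun e : b = c => hbO (e ▸ hc)))
    exact this hv
  refine ⟨fun h1 => (Finset.mem_erase.1 (hO (hsub h1))).1 rfl, ?_, fun b hb => ?_⟩
  · refine le_antisymm (hOc ▸ Finset.card_le_card hsub) (hOc ▸ Finset.card_le_card ?_)
    exact hO.trans (Finset.erase_subset _ _)
  · obtain ⟨m, rfl⟩ := horb b (hsub hb)
    exact h.weight_conj hf m a

end CfsgLib.SmallDegree
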