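import Mathlib.Tactic.Linarith
import Mathlib.Data.Real.Basic
import Mathlib.Tactic.Ring
import Mathlib.Tactic.FieldSimp
import Mathlib.Tactic.NormNum

/-!
# The arithmetic of the small degree theorem
-/

set_option autoImplicit false

namespace CfsgLib.SmallDegree

/-- The support size is forced to `e + 1` with `q = e ^ 2 + e + 1` and `x = e`. -/
theorem forced_params (q e k x : ℕ) (he : 1 ≤ e) (hx : e ≤ x) (hx2 : 2 ≤ x) (hq : x ^ 2 + 1 < q)
    (hdvd : e ∣ q - 1) (hk : k = e + 1 ∨ 2 * e + 1 ≤ k) (hkx : k + x ≤ x ^ 2 + 1)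
    (hlt : (k : ℤ) * ((q : ℤ) - k) < q * e) :
    x = e ∧ k = e + 1 ∧ q = e ^ 2 + e + 1 := by
  have hkx' : (k : ℤ) + x ≤ (x : ℤ) ^ 2 + 1 := by exact_mod_cast hkx
  have hq' : (x : ℤ) ^ 2 + 2 ≤ q := by exact_mod_cast hq
  have hke : (e : ℤ) + 1 ≤ k := by rcases hk with h | h <;> omega
  rcases Nat.lt_or_ge e x with hlt' | hge
  · exfalso
    have hex : (e : ℤ) + 1 ≤ x := by omega
    rcases Nat.le_total k x with hkle | hxle
    · have hkle' : (k : ℤ) ≤ x := by omega
      nlinarith [mul_le_mul hkle' hkle' (by positivity) (by positivity),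
        mul_nonneg (by linarith : (0 : ℤ) ≤ (q : ℤ)) (by linarith : (0 : ℤ) ≤ (k : ℤ) - e - 1)]
    · rcases Nat.eq_or_lt_of_le hxle with heq | hxk
      · subst heq
        nlinarith
      · have hxk' : (x : ℤ) + 1 ≤ k := by omega
        nlinarith [mul_nonneg (sub_nonneg.2 hxk')
          (by linarith : (0 : ℤ) ≤ (q : ℤ) - x - 1 - k),
          mul_nonneg (by linarith : (0 : ℤ) ≤ (q : ℤ)) (by linarith : (0 : ℤ) ≤ (x : ℤ) - e - 1)]
  · have hxe : x = e := le_antisymm hge hx
    subst hxe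
    obtain ⟨j, hj⟩ := hdvd
    have hj' : x + 1 ≤ j := by
      by_contra hcon
      have : x * j ≤ x * x := Nat.mul_le_mul_left _ (by omega)
      have h2 : x ^ 2 = x * x := pow_two x
      omega
    have hqj : (q : ℤ) = x * j + 1 := by
      have h3 : q = x * j + 1 := by omega
      exact_mod_cast h3
    have hqlow : (x : ℤ) ^ 2 + x + 1 ≤ q := by
      rw [hqj]
      have : ((x : ℤ) + 1) ≤ j := by exact_mod_cast hj'
      nlinarith
    rcases hk with hk | hk
    · refine ⟨rfl, hk, ?_⟩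
      subst hk
      rcases Nat.eq_or_lt_of_le hj' with h1 | h1
      · have h3 : q = x * j + 1 := by omega
        rw [h3, ← h1]; ring
      · exfalso
        have h2 : ((x : ℤ) + 2) ≤ j := by exact_mod_cast h1
        push_cast at hlt
        nlinarith [hqj]
    · exfalso
      have hk' : 2 * (x : ℤ) + 1 ≤ k := by exact_mod_cast hk
      have hx3 : (3 : ℤ) ≤ x := by
        by_contra hcon
        have : x = 2 := by omega
        subst this
        norm_num at hkx' hk'
        omega
      -- `k (q - k) - q x` is at least its value for the smallest admissible `q`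
      have h1 : ((x : ℤ) ^ 2 + x + 1) * ((k : ℤ) - x) ≤ (q : ℤ) * ((k : ℤ) - x) :=
        mul_le_mul_of_nonneg_right hqlow (by linarith)
      nlinarith [mul_nonneg (sub_nonneg.2 hk') (by linarith : (0 : ℤ) ≤ (x : ℤ) ^ 2 - x + 1 - k),
        mul_nonneg (by linarith : (0 : ℤ) ≤ (x : ℤ)) (by nlinarith : (0 : ℤ) ≤ (x : ℤ) ^ 2 - 3 * x + 1)]

/-- The weighted inequality fails in the forced case. -/
theorem weighted_false (q e T : ℝ) (he : 1 ≤ e) (hq : q = e ^ 2 + e + 1) (hT : T = e) :
    ¬ (q * (T + (1 + 1 / e) ^ 2) - (e + (1 + 1 / e)) * (T + (1 + 1 / e)) <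
      q * e * (1 + (1 / e) ^ 2)) := by
  subst hq hT
  have he0 : (0 : ℝ) < T := by linarith
  intro h
  field_simp at h
  nlinarith

end CfsgLib.SmallDegree
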