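import Cfsg.Agent.Lib.SmallDegree.Spectrum
import Mathlib.Algebra.Order.BigOperators.Ring.Finset
import Mathlib.Algebra.BigOperators.Field
import Mathlib.GroupTheory.GroupAction.Quotient

/-!
# The norm inequality on the trivial-intersection set
-/

set_option autoImplicit false

open scoped ComplexConjugate Classical

namespace CfsgLib.SmallDegree

universe u

open CfsgLib.Char

variable {G : Type u} [Group G] [Fintype G] {p : ℕ} [Fact p.Prime] {P : Sylow p G}

/-- The norm of a real combination of irreducible characters. -/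
theorem sum_normSq_comb {K : Type u} [Group K] [Fintype K] (c : Cfsg.IrrCharacter K → ℝ) :
    ∑ x : K, Complex.normSq (∑ η : Cfsg.IrrCharacter K, (c η : ℂ) * (η : K → ℂ) x) =
      (Nat.card K : ℝ) * ∑ η, c η ^ 2 := by
  have h := classInner_sum_smul_sum_smul (G := K) (fun η => (c η : ℂ)) (fun η => (c η : ℂ))
  simp only [Cfsg.classInner, Finset.sum_apply, Pi.smul_apply, smul_eq_mul,
    Complex.mul_conj] at h
  rw [← Complex.ofReal_sum,
    inv_mul_eq_iff_eq_mul₀ (Nat.cast_ne_zero.2 Nat.card_pos.ne')] at h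
  have h2 := congrArg Complex.re h
  simpa [Complex.mul_re, pow_two] using h2

theorem normSq_sum_le {ι : Type*} (s : Finset ι) (z : ι → ℂ) (w : ι → ℝ)
    (hw : ∀ i ∈ s, 0 < w i) :
    Complex.normSq (∑ i ∈ s, z i) ≤
      (∑ i ∈ s, w i) * ∑ i ∈ s, Complex.normSq (z i) / w i := by
  rcases s.eq_empty_or_nonempty with he | hne
  · simp [he]
  have h1 := Finset.sq_sum_div_le_sum_sq_div s (fun i => ‖z i‖) hw
  rw [div_le_iff₀ (Finset.sum_pos hw hne)] at h1
  simp only [Complex.normSq_eq_norm_sq]
  rw [mul_comm]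
  refine le_trans ?_ h1
  gcongr
  exact norm_sum_le _ _

/-- The principal character of the centralizer. -/
noncomputable def oneCen : Cfsg.IrrCharacter (cen P) := principalIrr

theorem Uniform.lam_oneCen (h : Uniform P) : h.lam oneCen = 1 := by
  ext s
  have := h.apply_incl oneCen s
  simpa [oneCen] using this.symm

/-- The coefficients of a character of `G` moved by `t` times the principal one. -/
noncomputable def coef (f : G → ℂ) (t : ℝ) (η : Cfsg.IrrCharacter (cen P)) : ℝ :=
  (mult f η : ℝ) + if η = oneCen then t else 0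

/-- The index of the centralizer in the normalizer. -/
noncomputable def idx (P : Sylow p G) : ℕ := ((cen P).subgroupOf (nor P)).index

theorem Uniform.card_nor (h : Uniform P) : Nat.card (nor P) = idx P * Nat.card (cen P) := by
  rw [idx, ← Nat.card_congr (Subgroup.subgroupOfEquivOfLe h.cen_le_nor).toEquiv, mul_comm,
    Subgroup.card_mul_index]

theorem Uniform.norm_ineq (h : Uniform P) (ψ : Cfsg.IrrCharacter G) (hψ : ψ ≠ principalIrr)
    (t : ℝ) (ht : 0 ≤ t) (w : ((P : Subgroup G) →* ℂˣ) → ℝ)
    (B : Finset ((P : Subgroup G) →* ℂˣ)) (hB : h.supp (ψ : G → ℂ) ⊆ B) (hB1 : 1 ∈ B)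
    (hw : ∀ b ∈ B, 0 < w b) :
    (Nat.card (P : Subgroup G) : ℝ) * ∑ η : Cfsg.IrrCharacter (cen P),
        coef (ψ : G → ℂ) t η ^ 2 -
      (∑ b ∈ B, w b) * ∑ η : Cfsg.IrrCharacter (cen P),
        coef (ψ : G → ℂ) t η ^ 2 / w (h.lam η) <
      (Nat.card (P : Subgroup G) : ℝ) * idx P * (1 + t ^ 2) := by
  have hχ : Cfsg.IsCharacter G (ψ : G → ℂ) := IsIrrCharacter.isCharacter ψ.2
  set m := coef (P := P) (ψ : G → ℂ) t with hm
  set f : G → ℝ := fun g => Complex.normSq ((ψ : G → ℂ) g + (t : ℂ)) with hf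
  -- total over `G`
  have htot : ∑ g, f g = (Nat.card G : ℝ) * (1 + t ^ 2) := by
    have h0 := sum_normSq_comb (K := G)
      (fun φ => (if φ = ψ then (1 : ℝ) else 0) + if φ = principalIrr then t else 0)
    have hsq : ∀ φ : Cfsg.IrrCharacter G,
        ((if φ = ψ then (1 : ℝ) else 0) + if φ = principalIrr then t else 0) ^ 2 =
          (if φ = ψ then (1 : ℝ) else 0) + if φ = principalIrr then t ^ 2 else 0 := by
      intro φ
      by_cases h1 : φ = ψ
      · simp [h1, hψ]
      · by_cases h2 : φ = principalIrr <;> simp [h1, h2, hψ.symm]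
    simp only [hsq, Finset.sum_add_distrib, Finset.sum_ite_eq', Finset.mem_univ, if_true,
      Complex.ofReal_add, add_mul] at h0
    rw [← h0]
    refine Finset.sum_congr rfl fun g _ => ?_
    simp [hf, apply_ite (fun r : ℝ => (r : ℂ))]
  -- values on the centralizer
  have hres : ∀ c : cen P, (ψ : G → ℂ) c + (t : ℂ) =
      ∑ η : Cfsg.IrrCharacter (cen P), (m η : ℂ) * (η : cen P → ℂ) c := by
    intro c
    rw [restrict_eq hχ c]
    simp only [hm, coef, Complex.ofReal_add, add_mul, Finset.sum_add_distrib,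
      Complex.ofReal_natCast]
    congr 1
    rw [Finset.sum_eq_single (oneCen (P := P))
      (fun η _ hne => by rw [if_neg hne]; simp) (fun hn => absurd (Finset.mem_univ _) hn)]
    simp [oneCen]
  have hC : ∑ c : cen P, f c = (Nat.card (cen P) : ℝ) * ∑ η, m η ^ 2 := by
    rw [← sum_normSq_comb m]
    exact Finset.sum_congr rfl fun c _ => by rw [hf]; simp only [hres]
  -- the parts over each character of `P`
  set Φ : ((P : Subgroup G) →* ℂˣ) → cen P → ℂ := fun b c =>
    ∑ η : Cfsg.IrrCharacter (cen P),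
      (((if h.lam η = b then m η else 0 : ℝ)) : ℂ) * (η : cen P → ℂ) c with hΦ
  have hout : ∀ η : Cfsg.IrrCharacter (cen P), h.lam η ∉ B → m η = 0 := by
    intro η hη
    have h1 : mult (ψ : G → ℂ) η = 0 := by
      by_contra hne
      exact hη (hB (h.mem_supp.2 ⟨η, hne, rfl⟩))
    have h2 : η ≠ oneCen := fun e => hη (by rw [e, h.lam_oneCen]; exact hB1)
    simp [hm, coef, h1, h2]
  have hsplit : ∀ c : cen P, (ψ : G → ℂ) c + (t : ℂ) = ∑ b ∈ B, Φ b c := by
    intro c
    rw [hres c, hΦ, Finset.sum_comm]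
    refine Finset.sum_congr rfl fun η _ => ?_
    by_cases hη : h.lam η ∈ B
    · simp [apply_ite (fun r : ℝ => (r : ℂ)), hη]
    · rw [hout η hη]; simp
  have hΦV : ∀ b, (Nat.card (P : Subgroup G) : ℝ) * ∑ v : h.V, Complex.normSq (Φ b v) =
      (Nat.card (cen P) : ℝ) * ∑ η, (if h.lam η = b then m η ^ 2 else 0) := by
    intro b
    have h1 := sum_normSq_comb (fun η => if h.lam η = b then m η else 0)
    have h2 : ∀ (v : h.V) (s : (P : Subgroup G)),
        Complex.normSq (Φ b ((v : cen P) * h.incl s)) = Complex.normSq (Φ b v) := by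
      intro v s
      have : Φ b ((v : cen P) * h.incl s) = (b s : ℂ) * Φ b v := by
        simp only [hΦ, Finset.mul_sum]
        refine Finset.sum_congr rfl fun η _ => ?_
        rw [h.lam_apply]
        split_ifs with e
        · rw [e]; ring
        · simp
      rw [this, map_mul, Complex.normSq_eq_norm_sq (b s : ℂ), norm_hom_apply, one_pow, one_mul]
    simp only [ite_pow, zero_pow (two_ne_zero (α := ℕ))] at h1
    rw [← h1, ← h.prodEquiv.sum_comp]
    simp only [Fintype.sum_prod_type, h.prodEquiv_apply]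
    rw [Finset.mul_sum]
    refine Finset.sum_congr rfl fun v _ => ?_
    rw [Finset.sum_congr rfl (fun s _ => h2 v s), Finset.sum_const, nsmul_eq_mul,
      Finset.card_univ, Nat.card_eq_fintype_card]
  -- the bound over `V`
  have hVle : (Nat.card (P : Subgroup G) : ℝ) * ∑ v : h.V, f ((v : cen P) : G) ≤
      (Nat.card (cen P) : ℝ) * ((∑ b ∈ B, w b) * ∑ η, m η ^ 2 / w (h.lam η)) := by
    calc (Nat.card (P : Subgroup G) : ℝ) * ∑ v : h.V, f ((v : cen P) : G)
        ≤ (Nat.card (P : Subgroup G) : ℝ) * ∑ v : h.V,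
            ((∑ b ∈ B, w b) * ∑ b ∈ B, Complex.normSq (Φ b v) / w b) := by
          gcongr with v _
          simp only [hf, hsplit]
          exact normSq_sum_le B _ w hw
      _ = (∑ b ∈ B, w b) * ∑ b ∈ B,
            ((Nat.card (P : Subgroup G) : ℝ) * ∑ v : h.V, Complex.normSq (Φ b v)) / w b := by
          rw [← Finset.mul_sum, Finset.sum_comm, ← mul_assoc,
            mul_comm _ (∑ b ∈ B, w b), mul_assoc, Finset.mul_sum]
          simp only [← Finset.sum_div, mul_div_assoc]
      _ = (∑ b ∈ B, w b) * ∑ b ∈ B, ∑ η,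
            (Nat.card (cen P) : ℝ) * (if h.lam η = b then m η ^ 2 / w b else 0) := by
          congr 1
          refine Finset.sum_congr rfl fun b _ => ?_
          rw [hΦV b, Finset.mul_sum, Finset.sum_div]
          refine Finset.sum_congr rfl fun η _ => ?_
          split_ifs <;> simp [mul_div_assoc]
      _ = _ := by
          rw [Finset.sum_comm, mul_left_comm (Nat.card (cen P) : ℝ)]
          congr 1
          rw [Finset.mul_sum]
          refine Finset.sum_congr rfl fun η _ => ?_
          rw [← Finset.mul_sum]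
          congr 1
          by_cases hη : h.lam η ∈ B
          · simp [hη]
          · rw [Finset.sum_eq_zero (fun b hb => if_neg (fun e : h.lam η = b => hη (e ▸ hb))),
              hout η hη]
            simp
  -- the bound outside `V`
  have hS := h.card_mul_sum_le f
    (fun g x => by simp only [hf]; rw [IsCharacter.isClassFunction hχ x g])
    (fun x => Complex.normSq_nonneg _)
  have hS' : ∑ c ∈ Finset.univ.filter (fun c : cen P => c ∉ h.V), f c =
      ∑ c : cen P, f c - ∑ v : h.V, f ((v : cen P) : G) := by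
    rw [← Finset.sum_filter_add_sum_filter_not Finset.univ (fun c : cen P => c ∈ h.V),
      ← Finset.sum_subtype (Finset.univ.filter (fun c : cen P => c ∈ h.V)) (by simp)
        (fun c : cen P => f c)]
    ring
  obtain ⟨d, hd0, hd⟩ := IsIrrCharacter.exists_degree ψ.2
  have hf1 : 0 < f 1 := by
    simp only [hf, hd]
    rw [Complex.normSq_pos, ← Complex.ofReal_natCast, ← Complex.ofReal_add, ne_eq,
      Complex.ofReal_eq_zero]
    positivity
  rw [Finset.sum_erase_eq_sub (Finset.mem_univ _), htot, hS', hC, h.card_nor,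
    Nat.cast_mul] at hS
  have hG : (0 : ℝ) < Nat.card G := Nat.cast_pos.2 Nat.card_pos
  have hCpos : (0 : ℝ) < Nat.card (cen P) := Nat.cast_pos.2 Nat.card_pos
  have hPpos : (0 : ℝ) < Nat.card (P : Subgroup G) := Nat.cast_pos.2 Nat.card_pos
  have hidx : (0 : ℝ) < idx P := Nat.cast_pos.2 (Nat.pos_of_ne_zero Subgroup.FiniteIndex.index_ne_zero)
  refine lt_of_mul_lt_mul_left (a := (Nat.card G : ℝ) * Nat.card (cen P)) ?_ (by positivity)
  have h3 := mul_le_mul_of_nonneg_left hVle hG.le
  have h4 := mul_le_mul_of_nonneg_left hS hPpos.le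
  nlinarith [mul_pos (mul_pos hPpos hidx) (mul_pos hCpos hf1)]

/-- The inequality with unit weights. -/
theorem Uniform.norm_ineq_one (h : Uniform P) (ψ : Cfsg.IrrCharacter G) (hψ : ψ ≠ principalIrr)
    (h1 : 1 ∈ h.supp (ψ : G → ℂ)) :
    ((Nat.card (P : Subgroup G) : ℝ) - (h.supp (ψ : G → ℂ)).card) *
        ∑ η : Cfsg.IrrCharacter (cen P), (mult (ψ : G → ℂ) η : ℝ) ^ 2 <
      (Nat.card (P : Subgroup G) : ℝ) * idx P := by
  have := h.norm_ineq ψ hψ 0 le_rfl (fun _ => 1) _ le_rfl h1 (fun _ _ => one_pos)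
  simpa [coef, sub_mul] using this

theorem Uniform.idx_dvd (h : Uniform P) : idx P ∣ Nat.card (P : Subgroup G) - 1 := by
  let act : MulAction (nor P) {s : (P : Subgroup G) // s ≠ 1} :=
    { smul := fun n s => ⟨conjP n s.1, by simpa using s.2⟩
      one_smul := fun s => Subtype.ext (Subtype.ext (by
        change ((1 : nor P) : G) * _ * _ = _
        simp))
      mul_smul := fun n m s => Subtype.ext (Subtype.ext (by
        change ((n * m : nor P) : G) * _ * _ = (n : G) * ((m : G) * _ * _) * _
        simp [mul_assoc])) }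
  have hst : ∀ s : {s : (P : Subgroup G) // s ≠ 1},
      MulAction.stabilizer (nor P) s = (cen P).subgroupOf (nor P) := by
    intro s
    ext n
    rw [MulAction.mem_stabilizer_iff, Subgroup.mem_subgroupOf]
    constructor
    · exact fun e => mem_cen_of_conjP_fixed h n s.2 (congrArg Subtype.val e)
    · intro hc
      refine Subtype.ext (Subtype.ext ?_)
      change (n : G) * (s.1 : G) * (n : G)⁻¹ = _
      rw [← Subgroup.mem_centralizer_iff.1 hc (s.1 : G) s.1.2, mul_inv_cancel_right]
  have e := Nat.card_congr (MulAction.selfEquivSigmaOrbitsQuotientStabilizer (nor P)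
    {s : (P : Subgroup G) // s ≠ 1})
  rw [Nat.card_sigma] at e
  have hc : Nat.card {s : (P : Subgroup G) // s ≠ 1} = Nat.card (P : Subgroup G) - 1 := by
    simp [Nat.card_eq_fintype_card, Fintype.card_subtype_compl]
  rw [← hc, e]
  refine Finset.dvd_sum fun w _ => ?_
  rw [hst]
  exact dvd_of_eq rfl

end CfsgLib.SmallDegree
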