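import Cfsg.Agent.Lib.SmallDegree.Inequality
import Cfsg.Agent.Lib.SmallDegree.Arith
import Cfsg.Agent.Lib.Char.Kernel
import Cfsg.Agent.Lib.Char.Conj
import Cfsg.Prelude.Def_Blocks

/-!
# Small irreducible degree under uniform centralizers
-/

set_option autoImplicit false

open scoped ComplexConjugate Classical

namespace CfsgLib.SmallDegree

universe u

open CfsgLib.Char

variable {G : Type u} [Group G] [Fintype G] {p : ℕ} [Fact p.Prime] {P : Sylow p G}

/-- An irreducible character constant on `P` gives a proper normal subgroup over `P`. -/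
theorem exists_normal_of_trivial_on (ψ : Cfsg.IrrCharacter G) (hψ : ψ ≠ principalIrr)
    (hP : ∀ s ∈ (P : Subgroup G), (ψ : G → ℂ) s = (ψ : G → ℂ) 1) :
    ∃ K : Subgroup G, K.Normal ∧ K ≠ ⊤ ∧ (P : Subgroup G) ≤ K := by
  obtain ⟨n, ρ, hρ, he⟩ := ψ.2
  have hn : ρ.character 1 = n := by simp
  refine ⟨MonoidHom.ker ρ, inferInstance, fun ht => hψ ?_, fun s hs => ?_⟩
  · have htriv : ∀ g, ρ g = 1 := fun g => by
      have : g ∈ MonoidHom.ker ρ := ht ▸ Subgroup.mem_top g
      exact this
    have h1 := CharKernel.finrank_eq_one_of_trivial ρ htriv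
    refine Subtype.ext ?_
    rw [← he]
    funext g
    simp [Representation.character, htriv g, h1]
  · refine (character_eq_degree_iff ρ s).1 ?_
    have := hP s hs
    rw [← he] at this
    rw [this, hn]
    simp

theorem coef_zero_eq (f : G → ℂ) (η : Cfsg.IrrCharacter (cen P)) :
    coef f 0 η = (mult f η : ℝ) := by simp [coef]

/-- The product of a character with its conjugate. -/
noncomputable def normChar (χ : G → ℂ) : G → ℂ := fun g => χ g * conj (χ g)

theorem isCharacter_normChar {χ : G → ℂ} (hχ : Cfsg.IsCharacter G χ) :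
    Cfsg.IsCharacter G (normChar χ) :=
  IsCharacter.mul hχ (IsCharacter.conj_apply' hχ)

theorem Uniform.classInner_normChar (h : Uniform P) {χ : G → ℂ} (hχ : Cfsg.IsCharacter G χ)
    (a : (P : Subgroup G) →* ℂˣ) :
    Cfsg.classInner (fun s : (P : Subgroup G) => normChar χ (s : G)) (fun s => (a s : ℂ)) =
      ∑ η : Cfsg.IrrCharacter (cen P), ∑ μ : Cfsg.IrrCharacter (cen P),
        ((wt χ η * wt χ μ : ℕ) : ℂ) * if h.lam η * (h.lam μ)⁻¹ = a then 1 else 0 := by
  have e : (fun s : (P : Subgroup G) => normChar χ (s : G)) =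
      ∑ η : Cfsg.IrrCharacter (cen P), ∑ μ : Cfsg.IrrCharacter (cen P),
        ((wt χ η * wt χ μ : ℕ) : ℂ) • fun s => ((h.lam η * (h.lam μ)⁻¹) s : ℂ) := by
    funext s
    simp only [normChar, h.restrict_P hχ, map_sum, Finset.sum_mul_sum, Finset.sum_apply,
      Pi.smul_apply, smul_eq_mul]
    refine Finset.sum_congr rfl fun η _ => Finset.sum_congr rfl fun μ _ => ?_
    have hc : conj (h.lam μ s : ℂ) = ((h.lam μ)⁻¹ s : ℂ) := by
      rw [MonoidHom.inv_apply, Units.val_inv_eq_inv_val]
      exact (inv_eq_of_mul_eq_one_right (hom_mul_conj _ s)).symm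
    simp only [map_mul, map_natCast, hc, MonoidHom.mul_apply, Units.val_mul, Nat.cast_mul]
    ring
  rw [e, classInner_sum_left]
  refine Finset.sum_congr rfl fun η _ => ?_
  rw [classInner_sum_left]
  refine Finset.sum_congr rfl fun μ _ => ?_
  rw [classInner_smul_left, classInner_hom]

theorem Uniform.card_supp_normChar (h : Uniform P) {χ : G → ℂ} (hχ : Cfsg.IsCharacter G χ) :
    (h.supp (normChar χ)).card + degree χ ≤ degree χ ^ 2 + 1 := by
  set A := h.supp χ with hA
  have hsub : h.supp (normChar χ) ⊆ insert 1 (A.offDiag.image fun z => z.1 * z.2⁻¹) := by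
    intro a ha
    rw [h.mem_supp_iff_classInner (isCharacter_normChar hχ), h.classInner_normChar hχ] at ha
    obtain ⟨η, -, hη⟩ := Finset.exists_ne_zero_of_sum_ne_zero ha
    obtain ⟨μ, -, hμ⟩ := Finset.exists_ne_zero_of_sum_ne_zero hη
    rcases mul_ne_zero_iff.1 hμ with ⟨h1, h2⟩
    have hew := Nat.cast_ne_zero.1 h1
    rcases mul_ne_zero_iff.1 hew with ⟨h3, h4⟩
    have hηA : h.lam η ∈ A := h.mem_supp.2 ⟨η, wt_pos.1 (Nat.pos_of_ne_zero h3), rfl⟩
    have hμA : h.lam μ ∈ A := h.mem_supp.2 ⟨μ, wt_pos.1 (Nat.pos_of_ne_zero h4), rfl⟩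
    have hea : h.lam η * (h.lam μ)⁻¹ = a := by
      by_contra hne
      exact h2 (if_neg hne)
    by_cases heq : h.lam η = h.lam μ
    · rw [← hea, heq]
      refine Finset.mem_insert.2 (Or.inl (MonoidHom.ext fun s => ?_))
      simp
    · exact Finset.mem_insert_of_mem (Finset.mem_image.2
        ⟨(h.lam η, h.lam μ), Finset.mem_offDiag.2 ⟨hηA, hμA, heq⟩, hea⟩)
  have h1 := (Finset.card_le_card hsub).trans (Finset.card_insert_le _ _)
  have h2 : (A.offDiag.image fun z => z.1 * z.2⁻¹).card ≤ A.offDiag.card := Finset.card_image_le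
  rw [Finset.offDiag_card] at h2
  have h3 := h.card_supp_le hχ
  rw [← hA] at h3
  have h4 : A.card * A.card - A.card + degree χ ≤ degree χ * degree χ := by
    obtain ⟨r, hr⟩ := Nat.exists_eq_add_of_le h3
    rcases A.card.eq_zero_or_pos with h5 | h5
    · rw [h5]
      simpa using Nat.le_mul_self _
    · have : A.card * A.card ≥ A.card := Nat.le_mul_of_pos_left _ h5
      zify [this]
      rw [hr]
      push_cast
      have hr0 : (0 : ℤ) ≤ r := by positivity
      have h6 : (1 : ℤ) ≤ A.card := by exact_mod_cast h5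
      nlinarith
  rw [pow_two]
  omega

/-- For a character with `|N : C|` constituents in its restriction to `P`, the part of the norm
character fixed by `P` is a multiple of the principal character of the centralizer. -/
theorem Uniform.mult_normChar_eq_zero (h : Uniform P) {χ : G → ℂ} (hχ : Cfsg.IsCharacter G χ)
    (hfull : degree χ ≤ (h.supp χ).card) (η : Cfsg.IrrCharacter (cen P)) (hη : h.lam η = 1)
    (hη1 : η ≠ oneCen) : mult (normChar χ) η = 0 := by
  set R := Finset.univ.filter fun μ : Cfsg.IrrCharacter (cen P) => mult χ μ ≠ 0 with hR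
  have hRw : ∀ μ ∈ R, 1 ≤ wt χ μ := fun μ hμ => wt_pos.2 (Finset.mem_filter.1 hμ).2
  have hsum : ∑ μ ∈ R, wt χ μ = degree χ := by
    rw [← sum_wt (P := P) hχ]
    refine Finset.sum_subset (Finset.subset_univ _) fun μ _ hμ => ?_
    simp only [hR, Finset.mem_filter, Finset.mem_univ, true_and, not_not] at hμ
    simp [wt, hμ]
  have hle : R.card ≤ ∑ μ ∈ R, wt χ μ := by
    rw [Finset.card_eq_sum_ones]
    exact Finset.sum_le_sum hRw
  have hinj : (R.image h.lam).card = R.card := by
    refine le_antisymm Finset.card_image_le ?_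
    exact le_trans (hsum ▸ hle) hfull
  have hone : ∀ μ ∈ R, wt χ μ = 1 := by
    intro μ hμ
    by_contra hne
    have : R.card < ∑ μ ∈ R, wt χ μ := by
      rw [Finset.card_eq_sum_ones]
      exact Finset.sum_lt_sum hRw ⟨μ, hμ, by have := hRw μ hμ; omega⟩
    have h2 : degree χ ≤ R.card := hfull.trans Finset.card_image_le
    omega
  have hlin : ∀ μ ∈ R, mult χ μ = 1 ∧ (μ : cen P → ℂ) 1 = 1 := fun μ hμ => by
    have h1 := hone μ hμ
    rw [wt] at h1
    refine ⟨Nat.eq_one_of_mul_eq_one_right h1, ?_⟩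
    rw [← IsCharacter.degree_cast (IsIrrCharacter.isCharacter μ.2),
      Nat.eq_one_of_mul_eq_one_left h1, Nat.cast_one]
  have hres : ∀ c : cen P, χ c = ∑ μ ∈ R, (μ : cen P → ℂ) c := by
    intro c
    rw [restrict_eq hχ c, ← Finset.sum_subset (Finset.subset_univ R) fun μ _ hμ => ?_]
    · exact Finset.sum_congr rfl fun μ hμ => by rw [(hlin μ hμ).1, Nat.cast_one, one_mul]
    · simp only [hR, Finset.mem_filter, Finset.mem_univ, true_and, not_not] at hμ
      simp [hμ]
  choose f hf using fun μ : {μ // μ ∈ R} =>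
    IsCharacter.exists_linear (IsIrrCharacter.isCharacter μ.1.2) (hlin μ.1 μ.2).2
  have hfl : ∀ (μ : {μ // μ ∈ R}) (s : (P : Subgroup G)), f μ (h.incl s) = h.lam μ.1 s := by
    intro μ s
    refine Units.ext ?_
    rw [← hf μ, h.apply_incl, (hlin μ.1 μ.2).2, one_mul]
  have hzero : ∀ μ ν : {μ // μ ∈ R},
      Cfsg.classInner (fun c : cen P => ((f μ * (f ν)⁻¹) c : ℂ)) (η : cen P → ℂ) = 0 := by
    intro μ ν
    refine classInner_irr_of_ne (isIrrCharacter_linear _) η.2 fun e => ?_
    rcases eq_or_ne μ ν with heq | hne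
    · subst heq
      refine hη1 (Subtype.ext ?_)
      rw [← e]
      funext c
      simp [oneCen]
    · have h1 : h.lam μ.1 ≠ h.lam ν.1 := fun e' =>
        hne (Subtype.ext (Finset.card_image_iff.1 hinj μ.2 ν.2 e'))
      refine h1 (mul_inv_eq_one.1 (MonoidHom.ext fun s => Units.ext ?_))
      have e1 := congrFun e (h.incl s)
      rw [h.apply_incl η, hη] at e1
      have e0 := congrFun e 1
      simp only [map_one, Units.val_one] at e0
      simp only [MonoidHom.one_apply, Units.val_one, ← e0, one_mul] at e1 ⊢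
      rw [← e1]
      simp [hfl]
  have hres' : (fun c : cen P => normChar χ c) =
      ∑ μ ∈ R.attach, ∑ ν ∈ R.attach, fun c : cen P => ((f μ * (f ν)⁻¹) c : ℂ) := by
    funext c
    simp only [normChar, hres c, ← Finset.sum_attach R (fun μ => (μ : cen P → ℂ) c), map_sum,
      Finset.sum_mul_sum, Finset.sum_apply]
    refine Finset.sum_congr rfl fun μ _ => Finset.sum_congr rfl fun ν _ => ?_
    rw [hf μ, hf ν, MonoidHom.mul_apply, MonoidHom.inv_apply, Units.val_mul,
      Units.val_inv_eq_inv_val]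
    congr 1
    exact (inv_eq_of_mul_eq_one_right (hom_mul_conj (f ν) c)).symm
  have h0 : Cfsg.classInner (fun c : cen P => normChar χ c) (η : cen P → ℂ) = 0 := by
    rw [hres', classInner_sum_left]
    refine Finset.sum_eq_zero fun μ _ => ?_
    rw [classInner_sum_left]
    exact Finset.sum_eq_zero fun ν _ => hzero μ ν
  have := mult_cast (isCharacter_normChar hχ) η
  rw [h0] at this
  exact_mod_cast this

/-- A nonprincipal constituent of the norm character with a fixed vector of `P`. -/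
theorem Uniform.exists_constituent (h : Uniform P) (χ : Cfsg.IrrCharacter G)
    (hx : 2 ≤ degree (χ : G → ℂ)) :
    ∃ ψ : Cfsg.IrrCharacter G, ψ ≠ principalIrr ∧ 1 ∈ h.supp (ψ : G → ℂ) ∧
      Cfsg.classInner (normChar (χ : G → ℂ)) (ψ : G → ℂ) ≠ 0 ∧
      ∀ η : Cfsg.IrrCharacter (cen P), mult (normChar (χ : G → ℂ)) η = 0 →
        mult (ψ : G → ℂ) η = 0 := by
  have hχ : Cfsg.IsCharacter G (χ : G → ℂ) := IsIrrCharacter.isCharacter χ.2
  obtain ⟨n, hn⟩ := IsCharacter.exists_nat_combination (isCharacter_normChar hχ)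
  have hn1 : n principalIrr = 1 := by
    have h1 := classInner_sum_smul_irr (fun φ => (n φ : ℂ)) principalIrr
    have h2 : Cfsg.classInner (normChar (χ : G → ℂ))
        ((principalIrr : Cfsg.IrrCharacter G) : G → ℂ) = 1 := by
      rw [← classInner_irr_self χ.2]
      simp [Cfsg.classInner, normChar]
    rw [hn, h1] at h2
    exact_mod_cast h2
  have hP : Cfsg.classInner (fun s : (P : Subgroup G) => normChar (χ : G → ℂ) (s : G))
      (fun s => ((1 : (P : Subgroup G) →* ℂˣ) s : ℂ)) =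
      ∑ φ : Cfsg.IrrCharacter G, (n φ : ℂ) *
        ((∑ η ∈ Finset.univ.filter (fun η => h.lam η = 1), wt (φ : G → ℂ) η : ℕ) : ℂ) := by
    have e : (fun s : (P : Subgroup G) => normChar (χ : G → ℂ) (s : G)) =
        ∑ φ : Cfsg.IrrCharacter G, (n φ : ℂ) •
          fun s : (P : Subgroup G) => (φ : G → ℂ) (s : G) := by
      funext s
      have := congrFun hn (s : G)
      simpa using this
    rw [e, classInner_sum_left]
    refine Finset.sum_congr rfl fun φ _ => ?_
    rw [classInner_smul_left, h.classInner_P (IsIrrCharacter.isCharacter φ.2)]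
  by_contra hcon
  push_neg at hcon
  have hzero : ∀ φ : Cfsg.IrrCharacter G, φ ≠ principalIrr → n φ ≠ 0 →
      (∑ η ∈ Finset.univ.filter (fun η => h.lam η = 1), wt (φ : G → ℂ) η) = 0 := by
    intro φ hφ hnφ
    by_contra hne
    have h1 : (1 : (P : Subgroup G) →* ℂˣ) ∈ h.supp (φ : G → ℂ) := by
      rw [h.mem_supp_iff_classInner (IsIrrCharacter.isCharacter φ.2),
        h.classInner_P (IsIrrCharacter.isCharacter φ.2)]
      exact Nat.cast_ne_zero.2 hne
    obtain ⟨η, hη0, hη⟩ := hcon φ hφ h1 (by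
      rw [hn, classInner_sum_smul_irr (fun φ => (n φ : ℂ))]
      exact Nat.cast_ne_zero.2 hnφ)
    refine hη ?_
    have e : (fun c : cen P => normChar (χ : G → ℂ) c) =
        ∑ φ : Cfsg.IrrCharacter G, (n φ : ℂ) • fun c : cen P => (φ : G → ℂ) c := by
      funext c
      have := congrFun hn (c : G)
      simpa using this
    have h2 := mult_cast (isCharacter_normChar hχ) η
    rw [hη0, e, classInner_sum_left] at h2
    simp only [classInner_smul_left,
      ← mult_cast (IsIrrCharacter.isCharacter (Subtype.prop _))] at h2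
    have h3 : ∑ φ : Cfsg.IrrCharacter G, n φ * mult (φ : G → ℂ) η = 0 := by
      exact_mod_cast h2.symm
    exact (mul_eq_zero.1 ((Finset.sum_eq_zero_iff.1 h3) φ (Finset.mem_univ _))).resolve_left hnφ
  have hpr : (∑ η ∈ Finset.univ.filter (fun η => h.lam η = 1),
      wt ((principalIrr : Cfsg.IrrCharacter G) : G → ℂ) η) ≤ 1 := by
    refine le_trans (Finset.sum_le_sum_of_subset (Finset.subset_univ _)) ?_
    rw [sum_wt (IsIrrCharacter.isCharacter (principalIrr : Cfsg.IrrCharacter G).2)]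
    simp [degree]
  have hone : ∑ φ : Cfsg.IrrCharacter G, (n φ : ℂ) *
      ((∑ η ∈ Finset.univ.filter (fun η => h.lam η = 1), wt (φ : G → ℂ) η : ℕ) : ℂ) =
      ((∑ η ∈ Finset.univ.filter (fun η => h.lam η = 1),
        wt ((principalIrr : Cfsg.IrrCharacter G) : G → ℂ) η : ℕ) : ℂ) := by
    rw [Finset.sum_eq_single principalIrr ?_ (fun hh => absurd (Finset.mem_univ _) hh), hn1,
      Nat.cast_one, one_mul]
    intro φ _ hφ
    rcases eq_or_ne (n φ) 0 with h0 | h0
    · simp [h0]
    · simp [hzero φ hφ h0]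
  rw [h.classInner_normChar hχ, hone] at hP
  have hge : (degree (χ : G → ℂ) : ℕ) ≤ ∑ η : Cfsg.IrrCharacter (cen P),
      ∑ μ : Cfsg.IrrCharacter (cen P),
        wt (χ : G → ℂ) η * wt (χ : G → ℂ) μ * if h.lam η * (h.lam μ)⁻¹ = 1 then 1 else 0 := by
    rw [← sum_wt (P := P) hχ]
    refine Finset.sum_le_sum fun η _ => ?_
    refine le_trans ?_ (Finset.single_le_sum (fun μ _ => Nat.zero_le _) (Finset.mem_univ η))
    rw [if_pos (MonoidHom.ext fun s => by simp), mul_one]
    exact Nat.le_mul_self _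
  have hP' : ∑ η : Cfsg.IrrCharacter (cen P),
      ∑ μ : Cfsg.IrrCharacter (cen P),
        wt (χ : G → ℂ) η * wt (χ : G → ℂ) μ * (if h.lam η * (h.lam μ)⁻¹ = 1 then 1 else 0) =
      ∑ η ∈ Finset.univ.filter (fun η => h.lam η = 1),
        wt ((principalIrr : Cfsg.IrrCharacter G) : G → ℂ) η := by
    have := hP
    exact_mod_cast this
  omega

theorem charDegree_eq_degree (f : G → ℂ) : Cfsg.charDegree f = degree f := rfl

/-- The degree of a character nonconstant on `P` is at least `|N : C|`. -/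
theorem Uniform.idx_le (h : Uniform P) {f : G → ℂ} (hf : Cfsg.IsCharacter G f)
    {a : (P : Subgroup G) →* ℂˣ} (ha : a ∈ h.supp f) (ha1 : a ≠ 1) :
    idx P ≤ ((h.supp f).erase 1).card ∧
      (((h.supp f).erase 1).card = idx P ∨ 2 * idx P ≤ ((h.supp f).erase 1).card) := by
  obtain ⟨O, hO, hc, -, hdis⟩ := h.card_nor_le hf ha ha1
  have hOc : O.card = idx P := by
    rw [h.card_nor] at hc
    exact (Nat.eq_of_mul_eq_mul_right Nat.card_pos hc).symm
  refine ⟨hOc ▸ Finset.card_le_card hO, ?_⟩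
  by_cases he : O = (h.supp f).erase 1
  · exact Or.inl (he ▸ hOc)
  · right
    obtain ⟨b, hb, hbO⟩ := Finset.exists_of_ssubset (Finset.ssubset_iff_subset_ne.2 ⟨hO, he⟩)
    obtain ⟨hb1, hbs⟩ := Finset.mem_erase.1 hb
    obtain ⟨O', hO', hc', horb, -⟩ := h.card_nor_le hf hbs hb1
    have hOc' : O'.card = idx P := by
      rw [h.card_nor] at hc'
      exact (Nat.eq_of_mul_eq_mul_right Nat.card_pos hc').symm
    have hd : Disjoint O O' := Finset.disjoint_left.2 fun c hcO hcO' => by
      obtain ⟨n, rfl⟩ := horb c hcO'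
      exact hdis b hb hbO n hcO
    calc 2 * idx P = (O ∪ O').card := by rw [Finset.card_union_of_disjoint hd, hOc, hOc', two_mul]
      _ ≤ _ := Finset.card_le_card (Finset.union_subset hO hO')

/-- A nonprincipal irreducible character of degree `x` with `x ^ 2 + 1 < |P|` either is linear with
trivial action of the normalizer on `P`, or there is a proper normal subgroup over `P`. -/
theorem Uniform.alternative (h : Uniform P) (χ : Cfsg.IrrCharacter G) (hχ1 : χ ≠ principalIrr)
    (hdeg : degree (χ : G → ℂ) ^ 2 + 1 < Nat.card (P : Subgroup G)) :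
    (∃ K : Subgroup G, K.Normal ∧ K ≠ ⊤ ∧ (P : Subgroup G) ≤ K) ∨
      (idx P = 1 ∧ degree (χ : G → ℂ) = 1) := by
  by_contra hcon
  push_neg at hcon
  obtain ⟨hK, hlin⟩ := hcon
  have hnK : ∀ ψ : Cfsg.IrrCharacter G, ψ ≠ principalIrr →
      ∃ a ∈ h.supp (ψ : G → ℂ), a ≠ 1 := by
    intro ψ hψ
    by_contra hno
    push_neg at hno
    obtain ⟨K, hKn, hKt, hKP⟩ := exists_normal_of_trivial_on (P := P) ψ hψ fun s hs =>
      h.apply_eq_of_supp (IsIrrCharacter.isCharacter ψ.2)
        (fun a ha => Finset.mem_singleton.2 (hno a ha)) ⟨s, hs⟩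
    exact hK K hKn hKt hKP
  have hχ : Cfsg.IsCharacter G (χ : G → ℂ) := IsIrrCharacter.isCharacter χ.2
  set x := degree (χ : G → ℂ) with hx
  set e := idx P with he
  have he1 : 1 ≤ e := Nat.pos_of_ne_zero Subgroup.FiniteIndex.index_ne_zero
  have hx1 : 1 ≤ x := IsIrrCharacter.degree_pos χ.2
  obtain ⟨a, ha, ha1⟩ := hnK χ hχ1
  have hAe : e ≤ (h.supp (χ : G → ℂ)).card :=
    (h.idx_le hχ ha ha1).1.trans (Finset.card_le_card (Finset.erase_subset _ _))
  have hAx := h.card_supp_le hχ
  have hx2 : 2 ≤ x := by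
    by_contra hlt
    exact hlin (by omega) (by omega)
  obtain ⟨ψ, hψ1, hψP, -, hψm⟩ := h.exists_constituent χ hx2
  obtain ⟨b, hb, hb1⟩ := hnK ψ hψ1
  have hψ := IsIrrCharacter.isCharacter ψ.2
  have hke := (h.idx_le hψ hb hb1).2
  rw [Finset.card_erase_of_mem hψP] at hke
  set k := (h.supp (ψ : G → ℂ)).card with hk
  have hkpos : 0 < k := Finset.card_pos.2 ⟨1, hψP⟩
  have hksub : h.supp (ψ : G → ℂ) ⊆ h.supp (normChar (χ : G → ℂ)) := by
    intro c hc
    obtain ⟨η, hη, rfl⟩ := h.mem_supp.1 hc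
    exact h.mem_supp.2 ⟨η, fun h0 => hη (hψm η h0), rfl⟩
  have hkx : k + x ≤ x ^ 2 + 1 :=
    le_trans (Nat.add_le_add_right (Finset.card_le_card hksub) _) (h.card_supp_normChar hχ)
  set q := Nat.card (P : Subgroup G) with hq
  set T := ∑ η : Cfsg.IrrCharacter (cen P), mult (ψ : G → ℂ) η ^ 2 with hT
  have hTR : (∑ η : Cfsg.IrrCharacter (cen P), (mult (ψ : G → ℂ) η : ℝ) ^ 2) = (T : ℝ) := by
    rw [hT]; push_cast; rfl
  have hkT : k ≤ T := by
    refine le_trans Finset.card_image_le ?_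
    rw [Finset.card_eq_sum_ones, hT]
    refine le_trans (Finset.sum_le_sum fun η hη => ?_)
      (Finset.sum_le_sum_of_subset (Finset.subset_univ _))
    exact Nat.one_le_iff_ne_zero.2 (pow_ne_zero _ (Finset.mem_filter.1 hη).2)
  have hineq := h.norm_ineq_one ψ hψ1 hψP
  rw [hTR, ← hk, ← hq, ← he] at hineq
  have hkq : (k : ℝ) ≤ q := by
    have h2 : k ≤ q := by omega
    exact_mod_cast h2
  have hlt : (k : ℤ) * ((q : ℤ) - k) < q * e := by
    have h1 : ((k : ℝ)) * ((q : ℝ) - k) < q * e := by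
      have hkT' : (k : ℝ) ≤ T := by exact_mod_cast hkT
      have := mul_le_mul_of_nonneg_left hkT' (sub_nonneg.2 hkq)
      linarith
    exact_mod_cast h1
  obtain ⟨hxe, hke1, hqe⟩ := forced_params q e k x he1 (hAe.trans hAx) hx2 hdeg h.idx_dvd
    (by omega) hkx hlt
  -- the forced case
  have he2 : 2 ≤ e := by omega
  have hTle : T ≤ e + 1 := by
    by_contra hT2
    have hT' : ((e : ℝ) + 2) ≤ T := by
      have : e + 2 ≤ T := by omega
      exact_mod_cast this
    have hqR : (q : ℝ) = (e : ℝ) ^ 2 + e + 1 := by exact_mod_cast hqe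
    have hkR : (k : ℝ) = e + 1 := by exact_mod_cast hke1
    have he2' : (2 : ℝ) ≤ e := by exact_mod_cast he2
    rw [hqR, hkR] at hineq
    nlinarith
  have hTe : T = e + 1 := by omega
  have hfull : x ≤ (h.supp (χ : G → ℂ)).card := by omega
  have hfix : ∀ η : Cfsg.IrrCharacter (cen P), h.lam η = 1 → η ≠ oneCen →
      mult (ψ : G → ℂ) η = 0 := fun η h1 h2 =>
    hψm η (h.mult_normChar_eq_zero hχ hfull η h1 h2)
  have hone : mult (ψ : G → ℂ) (oneCen (P := P)) ≠ 0 := by
    obtain ⟨η, hη, hl⟩ := h.mem_supp.1 hψP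
    intro h0
    rcases eq_or_ne η oneCen with rfl | hne
    · exact hη h0
    · exact hη (hfix η hl hne)
  -- every multiplicity is at most one
  have hmle : mult (ψ : G → ℂ) (oneCen (P := P)) = 1 := by
    by_contra hne
    have h4 : ∑ η ∈ Finset.univ.erase (oneCen : Cfsg.IrrCharacter (cen P)),
        mult (ψ : G → ℂ) η ^ 2 + mult (ψ : G → ℂ) (oneCen (P := P)) ^ 2 = T :=
      Finset.sum_erase_add _ _ (Finset.mem_univ _)
    have h5 : ((h.supp (ψ : G → ℂ)).erase 1).card ≤
        ∑ η ∈ Finset.univ.erase (oneCen : Cfsg.IrrCharacter (cen P)),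
          mult (ψ : G → ℂ) η ^ 2 := by
      have hs : (h.supp (ψ : G → ℂ)).erase 1 ⊆
          ((Finset.univ.erase (oneCen : Cfsg.IrrCharacter (cen P))).filter
            fun η => mult (ψ : G → ℂ) η ≠ 0).image h.lam := by
        intro c hc
        obtain ⟨η, hη, rfl⟩ := h.mem_supp.1 (Finset.mem_of_mem_erase hc)
        refine Finset.mem_image.2 ⟨η, Finset.mem_filter.2 ⟨Finset.mem_erase.2
          ⟨fun e' => ?_, Finset.mem_univ _⟩, hη⟩, rfl⟩
        exact (Finset.mem_erase.1 hc).1 (e' ▸ h.lam_oneCen)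
      refine (Finset.card_le_card hs).trans (Finset.card_image_le.trans ?_)
      rw [Finset.card_eq_sum_ones, Finset.sum_filter]
      refine Finset.sum_le_sum fun η _ => ?_
      split_ifs with hη
      · exact Nat.one_le_iff_ne_zero.2 (pow_ne_zero _ hη)
      · exact Nat.zero_le _
    rw [Finset.card_erase_of_mem hψP, ← hk] at h5
    have h6 : 4 ≤ mult (ψ : G → ℂ) (oneCen (P := P)) ^ 2 := by
      have : 2 ≤ mult (ψ : G → ℂ) (oneCen (P := P)) := by omega
      nlinarith
    omega
  -- weights `1 + 1 / e` at the principal character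
  let w : ((P : Subgroup G) →* ℂˣ) → ℝ := fun c => if c = 1 then 1 + 1 / (e : ℝ) else 1
  have hw0 : ∀ c, 0 < w c := fun c => by
    simp only [w]; split_ifs <;> positivity
  have hbig := h.norm_ineq ψ hψ1 (1 / (e : ℝ)) (by positivity) w _ le_rfl hψP (fun c _ => hw0 c)
  have hW : ∑ c ∈ h.supp (ψ : G → ℂ), w c = (e : ℝ) + (1 + 1 / e) := by
    rw [← Finset.sum_erase_add _ _ hψP,
      Finset.sum_congr rfl (fun c hc => if_neg (Finset.mem_erase.1 hc).1), Finset.sum_const,
      Finset.card_erase_of_mem hψP, ← hk, hke1]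
    simp [w]
  have hrest : ∑ η ∈ Finset.univ.erase (oneCen : Cfsg.IrrCharacter (cen P)),
      (mult (ψ : G → ℂ) η : ℝ) ^ 2 = e := by
    have h4 := Finset.sum_erase_add Finset.univ (fun η => (mult (ψ : G → ℂ) η : ℝ) ^ 2)
      (Finset.mem_univ (oneCen : Cfsg.IrrCharacter (cen P)))
    rw [hTR, hTe, hmle] at h4
    push_cast at h4
    linarith
  have hsum : ∀ F : Cfsg.IrrCharacter (cen P) → ℝ,
      (∀ η, η ≠ oneCen → F η = (mult (ψ : G → ℂ) η : ℝ) ^ 2) →
        ∑ η, F η = (e : ℝ) + F oneCen := by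
    intro F hF
    rw [← Finset.sum_erase_add _ _ (Finset.mem_univ (oneCen : Cfsg.IrrCharacter (cen P))), ← hrest]
    congr 1
    exact Finset.sum_congr rfl fun η hη => hF η (Finset.mem_erase.1 hη).1
  rw [hW, hsum (fun η => coef (ψ : G → ℂ) (1 / (e : ℝ)) η ^ 2)
      (fun η hη => by simp [coef, hη]),
    hsum (fun η => coef (ψ : G → ℂ) (1 / (e : ℝ)) η ^ 2 / w (h.lam η)) (fun η hη => by
      simp only [coef, if_neg hη, add_zero, w]
      split_ifs with h1
      · rw [hfix η h1 hη]; simp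
      · rw [div_one])] at hbig
  simp only [coef, if_pos, hmle, Nat.cast_one, w, h.lam_oneCen] at hbig
  have hpos : (1 : ℝ) + 1 / e ≠ 0 := by positivity
  rw [show (1 + 1 / (e : ℝ)) ^ 2 / (1 + 1 / e) = 1 + 1 / e by
    rw [pow_two, mul_div_assoc, div_self hpos, mul_one]] at hbig
  exact weighted_false q e e (by exact_mod_cast he1) (by exact_mod_cast hqe) rfl hbig

end CfsgLib.SmallDegree
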