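import Mathlib.Algebra.BigOperators.Ring.Finset
import Mathlib.Algebra.Order.BigOperators.Group.Finset
import Mathlib.Algebra.Ring.Parity
import Mathlib.Tactic.Linarith
import Mathlib.Tactic.Ring

/-!
# The counting argument for a Sylow subgroup of order `3 * e + 1`
-/

set_option autoImplicit false

open scoped Classical

namespace CfsgLib.SmallDegree

/-- The contribution of one value. -/
theorem term_lower (a s : ℤ) (ha : 1 ≤ a) :
    a - 2 ≤ (a - s) ^ 2 - (if a < s then 1 else 0) + 3 * s - 2 * a ∧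
      (a = 1 → 3 * s - 2 + (if s = 0 then 1 else 0) ≤
        (a - s) ^ 2 - (if a < s then 1 else 0) + 3 * s - 2 * a) := by
  have hD : 0 ≤ (a - s - 1) * (a - s - 2) := by
    rcases le_or_gt (a - s) 1 with h | h
    · exact mul_nonneg_of_nonpos_of_nonpos (by linarith) (by linarith)
    · exact mul_nonneg (by linarith) (by linarith)
  constructor
  · split_ifs with h
    · nlinarith
    · nlinarith
  · intro h1
    subst h1
    split_ifs <;> nlinarith

variable {Φ B : Type*} [Fintype Φ] [Fintype B]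

/-- The contribution of one constituent is nonnegative, and positive unless its fixed space has
dimension `2`. -/
theorem weight_nonneg (e : ℕ) (he : 1 ≤ e) (hB : Fintype.card B = 3 * e) (a n : ℤ) (s : B → ℤ)
    (ha : 1 ≤ a) (hn : 2 * (e : ℤ) ≤ n) (hs0 : ∀ b, 0 ≤ s b) (hsn : ∑ b, s b ≤ n) :
    0 ≤ ∑ b, ((a - s b) ^ 2 - (if a < s b then 1 else 0)) + 3 * n - 6 * (e : ℤ) * a ∧
      (a ≠ 2 →
        0 < ∑ b, ((a - s b) ^ 2 - (if a < s b then 1 else 0)) + 3 * n - 6 * (e : ℤ) * a) := by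
  have hrw : ∑ b, ((a - s b) ^ 2 - (if a < s b then 1 else 0)) + 3 * n - 6 * (e : ℤ) * a =
      ∑ b, ((a - s b) ^ 2 - (if a < s b then 1 else 0) + 3 * s b - 2 * a) +
        3 * (n - ∑ b, s b) := by
    have h1 : ∀ b, (a - s b) ^ 2 - (if a < s b then 1 else 0) + 3 * s b - 2 * a =
        ((a - s b) ^ 2 - (if a < s b then 1 else 0)) + 3 * s b + (-2 * a) := fun b => by ring
    simp only [h1, Finset.sum_add_distrib, Finset.sum_const, Finset.card_univ, hB, ← Finset.mul_sum,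
      nsmul_eq_mul]
    push_cast
    ring
  rw [hrw]
  rcases eq_or_lt_of_le ha with h1 | h1
  · have hz : ∑ b, (3 * s b - 2 + (if s b = 0 then (1 : ℤ) else 0)) ≤
        ∑ b, ((a - s b) ^ 2 - (if a < s b then 1 else 0) + 3 * s b - 2 * a) :=
      Finset.sum_le_sum fun b _ => (term_lower a (s b) ha).2 h1.symm
    have hz2 : ∑ b, (3 * s b - 2 + (if s b = 0 then (1 : ℤ) else 0)) =
        3 * ∑ b, s b - 6 * e + ∑ b, (if s b = 0 then (1 : ℤ) else 0) := by
      simp only [Finset.sum_add_distrib, Finset.sum_sub_distrib, Finset.sum_const,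
        Finset.card_univ, hB, ← Finset.mul_sum, nsmul_eq_mul]
      push_cast
      ring
    have hlow : (3 : ℤ) * e ≤ n ∨ 1 ≤ ∑ b, (if s b = 0 then (1 : ℤ) else 0) := by
      by_cases hex : ∃ b, s b = 0
      · obtain ⟨b, hb⟩ := hex
        right
        exact le_trans (by simp [hb]) (Finset.single_le_sum
          (f := fun b => if s b = 0 then (1 : ℤ) else 0)
          (fun _ _ => by split_ifs <;> norm_num) (Finset.mem_univ b))
      · left
        push Not at hex
        refine le_trans ?_ hsn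
        have : ∀ b, 1 ≤ s b := fun b => by have := hs0 b; have := hex b; omega
        calc (3 : ℤ) * e = ∑ _b : B, (1 : ℤ) := by simp [hB]
          _ ≤ _ := Finset.sum_le_sum fun b _ => this b
    have hpos : 0 < 3 * n - 6 * (e : ℤ) + ∑ b, (if s b = 0 then (1 : ℤ) else 0) := by
      have : (0 : ℤ) ≤ ∑ b, (if s b = 0 then (1 : ℤ) else 0) :=
        Finset.sum_nonneg fun _ _ => by split_ifs <;> norm_num
      have : (1 : ℤ) ≤ e := by exact_mod_cast he
      rcases hlow with h | h <;> linarith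
    refine ⟨?_, fun _ => ?_⟩ <;> linarith
  · have hz : ∑ _b : B, (a - 2) ≤
        ∑ b, ((a - s b) ^ 2 - (if a < s b then 1 else 0) + 3 * s b - 2 * a) :=
      Finset.sum_le_sum fun b _ => (term_lower a (s b) ha).1
    simp only [Finset.sum_const, Finset.card_univ, hB, nsmul_eq_mul] at hz
    push_cast at hz
    have he' : (1 : ℤ) ≤ e := by exact_mod_cast he
    refine ⟨?_, fun h2 => ?_⟩
    · nlinarith
    · have : 3 ≤ a := by omega
      nlinarith

/-- The counting contradiction. -/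
theorem counting_false (e : ℕ) (heven : Even e) (he : 2 ≤ e) (hB : Fintype.card B = 3 * e)
    (S : Finset Φ) (a n : Φ → ℤ) (s : Φ → B → ℤ) (ha : ∀ φ ∈ S, 1 ≤ a φ)
    (hn : ∀ φ ∈ S, 2 * (e : ℤ) ≤ n φ) (hs0 : ∀ φ ∈ S, ∀ b, 0 ≤ s φ b)
    (hsn : ∀ φ ∈ S, ∑ b, s φ b ≤ n φ) (hsuma : ∑ φ ∈ S, a φ = (e : ℤ) - 1)
    (hsumn : ∑ φ ∈ S, n φ ≤ (e : ℤ) ^ 2 - e)
    (hpars : ∀ b, ∑ φ ∈ S, ((a φ - s φ b) ^ 2 - (if a φ < s φ b then 1 else 0)) ≤ (e : ℤ) - 1) :
    False := by
  set R := fun φ => ∑ b, ((a φ - s φ b) ^ 2 - (if a φ < s φ b then 1 else 0)) + 3 * n φ -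
    6 * (e : ℤ) * a φ with hR
  have h1 : ∑ φ ∈ S, R φ ≤ 0 := by
    simp only [hR, Finset.sum_add_distrib, Finset.sum_sub_distrib, ← Finset.mul_sum, hsuma]
    have h2 : ∑ φ ∈ S, ∑ b, ((a φ - s φ b) ^ 2 - (if a φ < s φ b then 1 else 0)) ≤
        3 * (e : ℤ) * ((e : ℤ) - 1) := by
      rw [Finset.sum_comm]
      refine le_trans (Finset.sum_le_sum fun b _ => hpars b) ?_
      simp [hB]
      nlinarith
    simp only [Finset.sum_sub_distrib] at h2
    nlinarith
  have h0 : ∀ φ ∈ S, 0 ≤ R φ := fun φ hφ =>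
    (weight_nonneg e (by omega) hB (a φ) (n φ) (s φ) (ha φ hφ) (hn φ hφ) (hs0 φ hφ) (hsn φ hφ)).1
  obtain ⟨φ, hφ, hφ2⟩ : ∃ φ ∈ S, a φ ≠ 2 := by
    by_contra hcon
    push Not at hcon
    rw [Finset.sum_congr rfl hcon, Finset.sum_const, nsmul_eq_mul] at hsuma
    obtain ⟨k, hk⟩ := heven
    subst hk
    push_cast at hsuma
    omega
  have h2 := (weight_nonneg e (by omega) hB (a φ) (n φ) (s φ) (ha φ hφ) (hn φ hφ) (hs0 φ hφ)
    (hsn φ hφ)).2 hφ2
  have h3 := Finset.single_le_sum h0 hφ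
  simp only [hR] at h3 h1
  linarith

end CfsgLib.SmallDegree
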