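import Cfsg.Agent.Lib.SmallDegree.IrrRestrict
import Cfsg.Agent.Lib.Char.Induced
import Cfsg.Agent.Lib.Char.Complete

/-!
# The induced differences of linear characters of the centralizer
-/

set_option autoImplicit false

open scoped ComplexConjugate Classical

namespace CfsgLib.SmallDegree

universe u

open CfsgLib.Char

variable {G : Type u} [Group G] [Fintype G] {p : ℕ} [Fact p.Prime] {P : Sylow p G}

/-- A character of `P` as a character of the centralizer trivial on the complement. -/
noncomputable def Uniform.ext (h : Uniform P) (b : (P : Subgroup G) →* ℂˣ) : cen P →* ℂˣ :=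
  b.comp
    { toFun := fun c => (h.prodEquiv.symm c).2
      map_one' := by
        have : h.prodEquiv.symm 1 = ((1 : h.V), (1 : (P : Subgroup G))) := by
          rw [Equiv.symm_apply_eq, h.prodEquiv_apply, map_one, OneMemClass.coe_one, one_mul]
        rw [this]
      map_mul' := fun c d => by
        obtain ⟨⟨v, s⟩, rfl⟩ := h.prodEquiv.surjective c
        obtain ⟨⟨w, t⟩, rfl⟩ := h.prodEquiv.surjective d
        have e : h.prodEquiv (v, s) * h.prodEquiv (w, t) = h.prodEquiv (v * w, s * t) := by
          simp only [h.prodEquiv_apply, map_mul, Subgroup.coe_mul]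
          have hc := Subgroup.mem_center_iff.1 (h.incl_central s) (w : cen P)
          rw [mul_assoc (v : cen P), ← mul_assoc (h.incl s), ← hc]
          simp [mul_assoc]
        rw [e, Equiv.symm_apply_apply, Equiv.symm_apply_apply, Equiv.symm_apply_apply] }

theorem Uniform.ext_apply (h : Uniform P) (b : (P : Subgroup G) →* ℂˣ) (v : h.V)
    (s : (P : Subgroup G)) : h.ext b ((v : cen P) * h.incl s) = b s := by
  simp only [Uniform.ext, MonoidHom.comp_apply, MonoidHom.coe_mk, OneHom.coe_mk,
    ← h.prodEquiv_apply, Equiv.symm_apply_apply]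

theorem Uniform.ext_incl (h : Uniform P) (b : (P : Subgroup G) →* ℂˣ) (s : (P : Subgroup G)) :
    h.ext b (h.incl s) = b s := by
  simpa using h.ext_apply b 1 s

theorem Uniform.ext_of_mem (h : Uniform P) (b : (P : Subgroup G) →* ℂˣ) {c : cen P}
    (hc : c ∈ h.V) : h.ext b c = 1 := by
  simpa using h.ext_apply b ⟨c, hc⟩ 1

/-- The same, as an irreducible character. -/
noncomputable def Uniform.extIrr (h : Uniform P) (b : (P : Subgroup G) →* ℂˣ) :
    Cfsg.IrrCharacter (cen P) := ⟨_, isIrrCharacter_linear (h.ext b)⟩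

theorem Uniform.lam_extIrr (h : Uniform P) (b : (P : Subgroup G) →* ℂˣ) :
    h.lam (h.extIrr b) = b := by
  ext s
  have h1 := h.apply_incl (h.extIrr b) s
  have h2 : (h.extIrr b : cen P → ℂ) (h.incl s) = (b s : ℂ) := congrArg Units.val (h.ext_incl b s)
  have h3 : (h.extIrr b : cen P → ℂ) 1 = 1 := congrArg Units.val (map_one (h.ext b))
  rw [h2, h3, one_mul] at h1
  exact h1.symm

theorem Uniform.extIrr_ne_one (h : Uniform P) {b : (P : Subgroup G) →* ℂˣ} (hb : b ≠ 1) :
    h.extIrr b ≠ oneCen := fun e => hb (by rw [← h.lam_extIrr b, e, h.lam_oneCen])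

/-- The function `b - 1` on the centralizer. -/
noncomputable def Uniform.diff (h : Uniform P) (b : (P : Subgroup G) →* ℂˣ) : cen P → ℂ :=
  fun c => (h.ext b c : ℂ) - 1

theorem Uniform.classInner_ind_diff (h : Uniform P) (b : (P : Subgroup G) →* ℂˣ)
    (φ : Cfsg.IrrCharacter G) :
    Cfsg.classInner (Cfsg.indFun (cen P) (h.diff b)) (φ : G → ℂ) =
      (mult (φ : G → ℂ) (h.extIrr b) : ℂ) - (mult (φ : G → ℂ) (oneCen (P := P)) : ℂ) := by
  have hφ := IsIrrCharacter.isCharacter φ.2
  rw [classInner_indFun _ _ _ (IsIrrCharacter.isClassFunction φ.2)]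
  have e : h.diff b = (h.extIrr b : cen P → ℂ) - ((oneCen : Cfsg.IrrCharacter (cen P)) : cen P → ℂ) := by
    funext c
    simp [Uniform.diff, Uniform.extIrr, oneCen]
  rw [e, classInner_sub_left, ← classInner_conj_symm, ← mult_cast hφ, ← classInner_conj_symm,
    ← mult_cast hφ, Complex.conj_natCast, Complex.conj_natCast]

theorem Uniform.conj_mem_cen (h : Uniform P) {x : G} (hx : x ∈ nor P) {c : G} (hc : c ∈ cen P) :
    x⁻¹ * c * x ∈ cen P := by
  rw [cen, Subgroup.mem_centralizer_iff] at hc ⊢
  intro s hs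
  have h1 := hc (x * s * x⁻¹) ((Subgroup.mem_normalizer_iff.1 hx s).1 hs)
  calc s * (x⁻¹ * c * x) = x⁻¹ * (x * s * x⁻¹ * c) * x := by group
    _ = x⁻¹ * (c * (x * s * x⁻¹)) * x := by rw [h1]
    _ = x⁻¹ * c * x * s := by group

/-- The norm of the induced difference. -/
theorem Uniform.norm_ind_diff (h : Uniform P) {b : (P : Subgroup G) →* ℂˣ} (hb : b ≠ 1) :
    Cfsg.classInner (Cfsg.indFun (cen P) (h.diff b)) (Cfsg.indFun (cen P) (h.diff b)) =
      (idx P : ℂ) + 1 := by
  set g := h.diff b with hg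
  have hgV : ∀ c : cen P, c ∈ h.V → g c = 0 := fun c hc => by
    simp [hg, Uniform.diff, h.ext_of_mem b hc]
  rw [classInner_indFun _ _ _ (isClassFunction_indFun (cen P) g)]
  -- the inner products with the conjugates of `g`
  let gx : nor P → cen P → ℂ := fun x c => g ⟨(x : G)⁻¹ * c * x, h.conj_mem_cen x.2 c.2⟩
  have hres : ∀ c : cen P, g c * conj (Cfsg.indFun (cen P) g c) =
      (Nat.card (cen P) : ℂ)⁻¹ * ∑ x : nor P, g c * conj (gx x c) := by
    intro c
    by_cases hc : c ∈ h.V
    · simp [hgV c hc]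
    rw [indFun_apply, map_mul, map_inv₀, Complex.conj_natCast, mul_left_comm, map_sum,
      Finset.mul_sum]
    congr 1
    rw [← Finset.sum_subset (Finset.subset_univ (Finset.univ.filter fun x : G => x ∈ nor P))
      fun x _ hx => ?_]
    · rw [Finset.sum_subtype (p := fun x => x ∈ nor P) (Finset.univ.filter fun x : G => x ∈ nor P) (by simp)
        (fun x => g c * conj (Cfsg.extendByZero (cen P) g (x⁻¹ * (c : G) * x)))]
      refine Finset.sum_congr rfl fun x _ => ?_
      rw [extendByZero_apply_mem (cen P) g (h.conj_mem_cen x.2 c.2)]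
    · have hxN : x ∉ nor P := fun e => hx (Finset.mem_filter.2 ⟨Finset.mem_univ _, e⟩)
      by_cases hmem : x⁻¹ * (c : G) * x ∈ cen P
      · by_cases hV : (⟨_, hmem⟩ : cen P) ∈ h.V
        · rw [extendByZero_apply_mem (cen P) g hmem, hgV _ hV]; simp
        · exfalso
          refine hxN ?_
          exact h.mem_nor_of_conj ⟨_, hmem⟩ c hV hc (by simp [mul_assoc])
      · rw [extendByZero_of_notMem (cen P) g hmem]; simp
  have hin : ∀ x : nor P,
      Cfsg.classInner g (gx x) = if (x : G) ∈ cen P then 2 else 1 := by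
    intro x
    let θ : cen P →* ℂˣ := (h.ext b).comp
      { toFun := fun c => ⟨(x : G)⁻¹ * c * x, h.conj_mem_cen x.2 c.2⟩
        map_one' := Subtype.ext (by simp)
        map_mul' := fun c d => Subtype.ext (by simp [mul_assoc]) }
    have e1 : g = (h.extIrr b : cen P → ℂ) - ((oneCen : Cfsg.IrrCharacter (cen P)) : cen P → ℂ) := by
      funext c; simp [hg, Uniform.diff, Uniform.extIrr, oneCen]
    have e2 : gx x =
        (fun c => (θ c : ℂ)) - ((oneCen : Cfsg.IrrCharacter (cen P)) : cen P → ℂ) := by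
      funext c; simp [gx, θ, hg, Uniform.diff, oneCen]
    have hxs : ∀ s : (P : Subgroup G), θ (h.incl s) = b (conjP x⁻¹ s) := by
      intro s
      rw [← h.ext_incl b (conjP x⁻¹ s)]
      simp only [θ, MonoidHom.comp_apply, MonoidHom.coe_mk, OneHom.coe_mk]
      congr 1
      exact Subtype.ext (by simp)
    have hθ1 : (fun c => (θ c : ℂ)) ≠ ((oneCen : Cfsg.IrrCharacter (cen P)) : cen P → ℂ) := by
      intro e
      refine hb (MonoidHom.ext fun s => ?_)
      obtain ⟨t, rfl⟩ := (conjP x⁻¹).surjective s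
      rw [← hxs t]
      exact Units.ext (by simpa [oneCen] using congrFun e (h.incl t))
    have hne : (h.extIrr b : cen P → ℂ) ≠ ((oneCen : Cfsg.IrrCharacter (cen P)) : cen P → ℂ) :=
      fun e => h.extIrr_ne_one hb (Subtype.ext e)
    have hkey : Cfsg.classInner (h.extIrr b : cen P → ℂ) (fun c => (θ c : ℂ)) =
        if (x : G) ∈ cen P then 1 else 0 := by
      split_ifs with hx
      · have e3 : (fun c => (θ c : ℂ)) = (h.extIrr b : cen P → ℂ) := by
          funext c
          have hcf := IsIrrCharacter.isClassFunction (h.extIrr b).2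
          let xc : cen P := ⟨x, hx⟩
          rw [show (h.extIrr b : cen P → ℂ) c = (h.extIrr b : cen P → ℂ) (xc⁻¹ * c * xc) by
            simpa using (hcf c xc⁻¹).symm]
          rfl
        rw [e3, classInner_irr_self (h.extIrr b).2]
      · refine classInner_irr_of_ne (h.extIrr b).2 (isIrrCharacter_linear θ) fun e => ?_
        refine hb (h.eq_one_of_fixed x⁻¹ (fun hc => hx ?_) (MonoidHom.ext fun s => ?_))
        · simpa using hc
        · refine Units.ext ?_
          have := congrFun e (h.incl s)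
          simp only [MonoidHom.comp_apply, MulEquiv.coe_toMonoidHom, ← hxs]
          rw [← this]
          exact congrArg Units.val (h.ext_incl b s)
    rw [e1, e2, classInner_sub_left, classInner_sub_right, classInner_sub_right, hkey,
      classInner_irr_of_ne (h.extIrr b).2 (oneCen : Cfsg.IrrCharacter (cen P)).2 hne,
      classInner_irr_of_ne (oneCen : Cfsg.IrrCharacter (cen P)).2 (isIrrCharacter_linear θ)
        (Ne.symm hθ1), classInner_irr_self (oneCen : Cfsg.IrrCharacter (cen P)).2]
    split_ifs <;> norm_num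
  have hC : (Nat.card (cen P) : ℂ) ≠ 0 := Nat.cast_ne_zero.2 Nat.card_pos.ne'
  calc Cfsg.classInner g (fun c : cen P => Cfsg.indFun (cen P) g c)
      = (Nat.card (cen P) : ℂ)⁻¹ * ∑ x : nor P, Cfsg.classInner g (gx x) := by
        rw [Cfsg.classInner, Finset.sum_congr rfl fun c _ => hres c, Finset.mul_sum,
          Finset.mul_sum]
        simp only [Cfsg.classInner, Finset.mul_sum]
        rw [Finset.sum_comm]
    _ = (Nat.card (cen P) : ℂ)⁻¹ * ((Nat.card (nor P) : ℂ) + Nat.card (cen P)) := by
        congr 1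
        rw [Finset.sum_congr rfl fun x _ => hin x]
        have : ∀ x : nor P, (if (x : G) ∈ cen P then (2 : ℂ) else 1) =
            1 + if (x : G) ∈ cen P then 1 else 0 := fun x => by split_ifs <;> norm_num
        rw [Finset.sum_congr rfl fun x _ => this x, Finset.sum_add_distrib, Finset.sum_const,
          Finset.sum_boole, Finset.card_univ, nsmul_eq_mul, mul_one, Nat.card_eq_fintype_card]
        congr 2
        rw [← Fintype.card_subtype, Nat.card_eq_fintype_card]
        exact Fintype.card_congr (Subgroup.subgroupOfEquivOfLe h.cen_le_nor).toEquiv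
    _ = (idx P : ℂ) + 1 := by
        rw [h.card_nor, Nat.cast_mul, mul_add, inv_mul_cancel₀ hC, mul_comm (idx P : ℂ),
          ← mul_assoc, inv_mul_cancel₀ hC, one_mul]

/-- The coefficient of an irreducible character of `G` in the induced difference. -/
noncomputable def Uniform.coefAt (h : Uniform P) (b : (P : Subgroup G) →* ℂˣ)
    (φ : Cfsg.IrrCharacter G) : ℤ :=
  (mult (φ : G → ℂ) (h.extIrr b) : ℤ) - mult (φ : G → ℂ) (oneCen (P := P))

theorem Uniform.coefAt_principal (h : Uniform P) {b : (P : Subgroup G) →* ℂˣ} (hb : b ≠ 1) :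
    h.coefAt b principalIrr = -1 := by
  have hpr : Cfsg.IsCharacter G ((principalIrr : Cfsg.IrrCharacter G) : G → ℂ) :=
    IsIrrCharacter.isCharacter principalIrr.2
  have e : (fun c : cen P => ((principalIrr : Cfsg.IrrCharacter G) : G → ℂ) (c : G)) =
      ((oneCen : Cfsg.IrrCharacter (cen P)) : cen P → ℂ) := by funext c; simp [oneCen]
  have h1 : mult ((principalIrr : Cfsg.IrrCharacter G) : G → ℂ) (oneCen (P := P)) = 1 := by
    have := mult_cast hpr (oneCen (P := P))
    rw [e, classInner_irr_self (oneCen : Cfsg.IrrCharacter (cen P)).2] at this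
    exact_mod_cast this
  have h2 : mult ((principalIrr : Cfsg.IrrCharacter G) : G → ℂ) (h.extIrr b) = 0 := by
    have := mult_cast hpr (h.extIrr b)
    rw [e, classInner_irr_of_ne (oneCen : Cfsg.IrrCharacter (cen P)).2 (h.extIrr b).2
      fun e' => h.extIrr_ne_one hb (Subtype.ext e'.symm)] at this
    exact_mod_cast this
  simp [Uniform.coefAt, h1, h2]

/-- Parseval's equation and the value at `1` of the induced difference. -/
theorem Uniform.coefAt_spec (h : Uniform P) {b : (P : Subgroup G) →* ℂˣ} (hb : b ≠ 1) :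
    ∑ φ ∈ Finset.univ.erase (principalIrr : Cfsg.IrrCharacter G), h.coefAt b φ ^ 2 = (idx P : ℤ) ∧
      ∃ φ : Cfsg.IrrCharacter G, φ ≠ principalIrr ∧ 0 < h.coefAt b φ := by
  set F := Cfsg.indFun (cen P) (h.diff b) with hF
  have hFc : Cfsg.IsClassFunction G F := isClassFunction_indFun _ _
  have hc : ∀ φ : Cfsg.IrrCharacter G,
      Cfsg.classInner F (φ : G → ℂ) = (h.coefAt b φ : ℂ) := fun φ => by
    rw [h.classInner_ind_diff, Uniform.coefAt]; push_cast; rfl
  have h1 := classInner_eq_sum hFc hFc
  rw [h.norm_ind_diff hb] at h1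
  simp only [hc, map_intCast] at h1
  have h2 : ∑ φ : Cfsg.IrrCharacter G, h.coefAt b φ ^ 2 = (idx P : ℤ) + 1 := by
    have : ((∑ φ : Cfsg.IrrCharacter G, h.coefAt b φ ^ 2 : ℤ) : ℂ) =
        (((idx P : ℤ) + 1 : ℤ) : ℂ) := by
      push_cast
      simp only [pow_two]
      exact h1.symm
    exact_mod_cast this
  have h3 : (0 : ℂ) = ∑ φ : Cfsg.IrrCharacter G,
      ((h.coefAt b φ * degree (φ : G → ℂ) : ℤ) : ℂ) := by
    have h4 := congrFun (IsClassFunction.eq_sum_classInner hFc) 1
    have h5 : F 1 = 0 := by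
      rw [hF, indFun_apply_one, Uniform.diff, map_one, Units.val_one, sub_self, mul_zero]
    simp only [hc, Finset.sum_apply, Pi.smul_apply, smul_eq_mul, h5] at h4
    rw [h4]
    refine Finset.sum_congr rfl fun φ _ => ?_
    push_cast
    rw [IsCharacter.degree_cast (IsIrrCharacter.isCharacter φ.2)]
  refine ⟨?_, ?_⟩
  · rw [← Finset.sum_erase_add _ _ (Finset.mem_univ (principalIrr : Cfsg.IrrCharacter G)),
      h.coefAt_principal hb] at h2
    linarith
  · by_contra hcon
    push Not at hcon
    have h6 : (0 : ℤ) = ∑ φ : Cfsg.IrrCharacter G,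
        h.coefAt b φ * degree (φ : G → ℂ) := by exact_mod_cast h3
    rw [← Finset.sum_erase_add _ _ (Finset.mem_univ (principalIrr : Cfsg.IrrCharacter G)),
      h.coefAt_principal hb] at h6
    have h7 : ∑ φ ∈ Finset.univ.erase (principalIrr : Cfsg.IrrCharacter G),
        h.coefAt b φ * degree (φ : G → ℂ) ≤ 0 :=
      Finset.sum_nonpos fun φ hφ =>
        mul_nonpos_of_nonpos_of_nonneg (hcon φ (Finset.mem_erase.1 hφ).1) (Int.natCast_nonneg _)
    have h8 : (0 : ℤ) < degree ((principalIrr : Cfsg.IrrCharacter G) : G → ℂ) := by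
      exact_mod_cast IsIrrCharacter.degree_pos (principalIrr : Cfsg.IrrCharacter G).2
    linarith

/-- There are `|P|` linear characters of `P`. -/
theorem Uniform.card_hom (h : Uniform P) :
    Nat.card ((P : Subgroup G) →* ℂˣ) = Nat.card (P : Subgroup G) := by
  have hcomm : ∀ x y : (P : Subgroup G), x * y = y * x := fun x y => by
    have := Subgroup.mem_center_iff.1 (h.incl_central x) (h.incl y)
    exact h.incl_injective (by rw [map_mul, map_mul]; exact this.symm)
  have hlin : ∀ ψ : Cfsg.IrrCharacter (P : Subgroup G), (ψ : ↥(P : Subgroup G) → ℂ) 1 = 1 :=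
    fun ψ => (CharOver.abelian_irr hcomm ψ.2).1
  have h1 : Nat.card ((P : Subgroup G) →* ℂˣ) = Nat.card (Cfsg.IrrCharacter (P : Subgroup G)) :=
    Nat.card_congr (linearCharEquiv.trans (Equiv.subtypeUnivEquiv hlin))
  rw [h1, ← sum_degree_sq (G := (P : Subgroup G))]
  have : ∀ ψ : Cfsg.IrrCharacter (P : Subgroup G), degree (ψ : ↥(P : Subgroup G) → ℂ) = 1 :=
    fun ψ => by simp [degree, hlin ψ]
  simp [this, Nat.card_eq_fintype_card]

end CfsgLib.SmallDegree
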