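import Cfsg.Agent.Lib.SmallDegree.PrimeIneq
import Cfsg.Agent.Lib.SmallDegree.PrimeArith
import Cfsg.Agent.Lib.SmallDegree.Result
import Cfsg.Agent.Lib.LatticeFix.Realize

/-!
# Sylow subgroups of prime order and faithful characters of degree less than `(p - 1) / 2`
-/

set_option autoImplicit false

open scoped ComplexConjugate Classical

namespace CfsgLib.SmallDegree

universe u

open CfsgLib.Char

variable {G : Type u} [Group G] [Fintype G] {p : ℕ} [Fact p.Prime] {P : Sylow p G}

theorem uniform_of_card_prime (hP : Nat.card (P : Subgroup G) = p) : Uniform P := by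
  intro x hx hx1
  refine le_antisymm ?_ (Subgroup.centralizer_le (Set.singleton_subset_iff.2 hx))
  intro g hg
  rw [Subgroup.mem_centralizer_singleton_iff] at hg
  rw [Subgroup.mem_centralizer_iff]
  intro y hy
  have hne : (⟨x, hx⟩ : (P : Subgroup G)) ≠ 1 := fun e => hx1 (congrArg Subtype.val e)
  obtain ⟨k, hk⟩ := Subgroup.mem_zpowers_iff.1
    ((zpowers_eq_top_of_prime_card hP hne).symm ▸ Subgroup.mem_top (⟨y, hy⟩ : (P : Subgroup G)))
  have h1 : x ^ k = y := congrArg Subtype.val hk
  rw [← h1]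
  exact ((Commute.zpow_left (show Commute x g from hg.symm) k).eq)

theorem Uniform.comm_nor (h : Uniform P) (hP : Nat.card (P : Subgroup G) = p) (x y : nor P) :
    ((x * y * x⁻¹ * y⁻¹ : nor P) : G) ∈ cen P := by
  haveI : Nontrivial (P : Subgroup G) := by
    rw [← Finite.one_lt_card_iff_nontrivial, hP]; exact (Fact.out : p.Prime).one_lt
  obtain ⟨s, hs⟩ := exists_ne (1 : (P : Subgroup G))
  have hpow : ∀ (n : nor P), ∃ k : ℤ, conjP n s = s ^ k := fun n => by
    obtain ⟨k, hk⟩ := Subgroup.mem_zpowers_iff.1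
      ((zpowers_eq_top_of_prime_card hP hs).symm ▸ Subgroup.mem_top (conjP n s))
    exact ⟨k, hk.symm⟩
  have hmul : ∀ (n m : nor P) (t : (P : Subgroup G)), conjP (n * m) t = conjP n (conjP m t) :=
    fun n m t => Subtype.ext (by simp [mul_assoc])
  refine mem_cen_of_conjP_fixed h _ hs ?_
  obtain ⟨k, hk⟩ := hpow x
  obtain ⟨l, hl⟩ := hpow y
  have e : conjP (x * y) s = conjP (y * x) s := by
    rw [hmul, hmul, hl, hk, map_zpow, map_zpow, hk, hl, ← zpow_mul, ← zpow_mul, mul_comm]
  obtain ⟨t, ht⟩ := (conjP (y * x)).surjective s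
  have e2 : (x * y * x⁻¹ * y⁻¹ : nor P) = x * y * (y * x)⁻¹ := by group
  rw [e2]
  have e3 : conjP (x * y) t = conjP (y * x) t := by
    obtain ⟨j, hj⟩ := Subgroup.mem_zpowers_iff.1
      ((zpowers_eq_top_of_prime_card hP hs).symm ▸ Subgroup.mem_top t)
    rw [← hj, map_zpow, map_zpow, e]
  conv_lhs => rw [← ht]
  rw [← hmul, inv_mul_cancel_right, e3, ht]

/-- If the norm character has the same norm over the normalizer as over the group, a character
of degree at most `p / 2` is linear. -/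
theorem Uniform.degree_le_one_of_norm (h : Uniform P) (hP : Nat.card (P : Subgroup G) = p)
    (hK : ∀ K : Subgroup G, K.Normal → K ≠ ⊤ → ¬ (P : Subgroup G) ≤ K)
    (χ : Cfsg.IrrCharacter G)
    (hnorm : Cfsg.classInner (fun g => (χ : G → ℂ) g * conj ((χ : G → ℂ) g))
        (fun g => (χ : G → ℂ) g * conj ((χ : G → ℂ) g)) =
      Cfsg.classInner (fun n : nor P => (χ : G → ℂ) n * conj ((χ : G → ℂ) n))
        (fun n : nor P => (χ : G → ℂ) n * conj ((χ : G → ℂ) n))) :
    degree (χ : G → ℂ) ≤ 1 := by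
  by_contra hx2
  push Not at hx2
  have hnK : ∀ ψ : Cfsg.IrrCharacter G, ψ ≠ principalIrr →
      ∃ a ∈ h.supp (ψ : G → ℂ), a ≠ 1 := by
    intro ψ hψ
    by_contra hno
    push Not at hno
    obtain ⟨K, hKn, hKt, hKP⟩ := exists_normal_of_trivial_on (P := P) ψ hψ fun s hs =>
      h.apply_eq_of_supp (IsIrrCharacter.isCharacter ψ.2)
        (fun a ha => Finset.mem_singleton.2 (hno a ha)) ⟨s, hs⟩
    exact hK K hKn hKt hKP
  have hχ : Cfsg.IsCharacter G (χ : G → ℂ) := IsIrrCharacter.isCharacter χ.2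
  have hχ1 : χ ≠ principalIrr := fun e => by
    rw [e] at hx2
    simp [degree] at hx2
  -- a constituent of the norm character with fixed vectors
  obtain ⟨ψ₀, hψ₀1, hψ₀P, hψ₀m, hψ₀z⟩ := h.exists_constituent χ hx2
  set θ := normChar (χ : G → ℂ) with hθdef
  have hθ := isCharacter_normChar hχ
  obtain ⟨m, hm⟩ := IsCharacter.exists_nat_combination hθ
  have hmc : ∀ φ : Cfsg.IrrCharacter G, Cfsg.classInner θ (φ : G → ℂ) = (m φ : ℂ) := fun φ => by
    rw [hθdef, hm, classInner_sum_smul_irr (fun φ => (m φ : ℂ))]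
  have hresN : (fun n : nor P => θ n) =
      ∑ φ : Cfsg.IrrCharacter G, (m φ : ℂ) • fun n : nor P => (φ : G → ℂ) n := by
    funext n
    have := congrFun hm (n : G)
    simpa using this
  change Cfsg.classInner θ θ = Cfsg.classInner (fun n : nor P => θ n) (fun n : nor P => θ n)
    at hnorm
  obtain ⟨c, hc⟩ : ∃ c : Cfsg.IrrCharacter G → Cfsg.IrrCharacter G → ℕ,
      ∀ φ φ' : Cfsg.IrrCharacter G,
      Cfsg.classInner (fun n : nor P => (φ : G → ℂ) n) (fun n : nor P => (φ' : G → ℂ) n) =
        (c φ φ' : ℂ) := by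
    choose c hc using fun (φ : Cfsg.IrrCharacter G) (φ' : Cfsg.IrrCharacter G) => IsCharacter.exists_nat_classInner'
      (IsCharacter.restrict (IsIrrCharacter.isCharacter φ.2) (nor P))
      (IsCharacter.restrict (IsIrrCharacter.isCharacter φ'.2) (nor P))
    exact ⟨c, hc⟩
  rw [hresN, hθdef, hm, classInner_sum_smul_sum_smul, classInner_sum_left] at hnorm
  simp only [classInner_sum_right, classInner_smul_left, classInner_smul_right, hc,
    Complex.conj_natCast] at hnorm
  have hnat : ∑ φ, m φ * m φ = ∑ φ, m φ * ∑ φ', m φ' * c φ φ' := by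
    simp only [Finset.mul_sum, mul_left_comm] at hnorm ⊢
    exact_mod_cast hnorm
  have hdiag : ∀ φ : Cfsg.IrrCharacter G, 1 ≤ c φ φ := by
    intro φ
    by_contra hlt
    have h0 : c φ φ = 0 := by omega
    have hr := IsCharacter.restrict (IsIrrCharacter.isCharacter φ.2) (nor P)
    obtain ⟨k, hk⟩ := IsCharacter.exists_nat_combination hr
    have h1 := hc φ φ
    rw [h0, hk, classInner_sum_smul_sum_smul] at h1
    simp only [Complex.conj_natCast, ← Nat.cast_mul, ← Nat.cast_sum, Nat.cast_zero,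
      Nat.cast_eq_zero, Finset.sum_eq_zero_iff, mul_eq_zero, or_self] at h1
    have h2 := congrFun hk 1
    simp [h1, IsIrrCharacter.apply_one_ne_zero φ.2] at h2
  have hle : ∀ φ ∈ (Finset.univ : Finset (Cfsg.IrrCharacter G)),
      m φ * m φ ≤ m φ * ∑ φ', m φ' * c φ φ' := fun φ _ =>
    Nat.mul_le_mul_left _ (le_trans (Nat.le_mul_of_pos_right _ (hdiag φ))
      (Finset.single_le_sum (f := fun φ' => m φ' * c φ φ') (fun _ _ => Nat.zero_le _)
        (Finset.mem_univ φ)))
  have hm0 : m ψ₀ ≠ 0 := fun e0 => hψ₀m (by rw [hmc, e0, Nat.cast_zero])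
  have h1 := (Finset.sum_eq_sum_iff_of_le hle).1 hnat ψ₀ (Finset.mem_univ _)
  have h2 : m ψ₀ = ∑ φ', m φ' * c ψ₀ φ' := mul_left_cancel₀ hm0 h1
  have h3 : m ψ₀ * c ψ₀ ψ₀ ≤ m ψ₀ * 1 := by
    rw [mul_one]
    conv_rhs => rw [h2]
    exact Finset.single_le_sum (f := fun φ' => m φ' * c ψ₀ φ') (fun _ _ => Nat.zero_le _)
      (Finset.mem_univ ψ₀)
  have h4 : c ψ₀ ψ₀ = 1 :=
    le_antisymm (Nat.le_of_mul_le_mul_left h3 (Nat.pos_of_ne_zero hm0)) (hdiag ψ₀)
  have hir : Cfsg.IsIrrCharacter (nor P) (fun n : nor P => (ψ₀ : G → ℂ) n) :=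
    IsCharacter.isIrrCharacter_of_classInner_self
      (IsCharacter.restrict (IsIrrCharacter.isCharacter ψ₀.2) (nor P))
      (by rw [hc, h4, Nat.cast_one])
  obtain ⟨b, hb, hb1⟩ := hnK ψ₀ hψ₀1
  exact (h.supp_eq_orbit (IsIrrCharacter.isCharacter ψ₀.2) hir hb hb1).1 hψ₀P

/-- An irreducible character of degree at most `(p - 1) / 2` with `P` outside the kernel of every
nonprincipal irreducible character is linear. -/
theorem Uniform.degree_le_one_of_half (h : Uniform P) (hP : Nat.card (P : Subgroup G) = p)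
    (hK : ∀ K : Subgroup G, K.Normal → K ≠ ⊤ → ¬ (P : Subgroup G) ≤ K)
    (χ : Cfsg.IrrCharacter G) (hdeg : 2 * degree (χ : G → ℂ) + 1 ≤ p)
    (hne : 2 * degree (χ : G → ℂ) + 1 < p ∨ 2 * idx P + 1 < p) :
    degree (χ : G → ℂ) ≤ 1 := by
  by_contra hx2
  push Not at hx2
  have hnK : ∀ ψ : Cfsg.IrrCharacter G, ψ ≠ principalIrr →
      ∃ a ∈ h.supp (ψ : G → ℂ), a ≠ 1 := by
    intro ψ hψ
    by_contra hno
    push Not at hno
    obtain ⟨K, hKn, hKt, hKP⟩ := exists_normal_of_trivial_on (P := P) ψ hψ fun s hs =>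
      h.apply_eq_of_supp (IsIrrCharacter.isCharacter ψ.2)
        (fun a ha => Finset.mem_singleton.2 (hno a ha)) ⟨s, hs⟩
    exact hK K hKn hKt hKP
  have hχ : Cfsg.IsCharacter G (χ : G → ℂ) := IsIrrCharacter.isCharacter χ.2
  have hχ1 : χ ≠ principalIrr := fun e => by
    rw [e] at hx2
    simp [degree] at hx2
  set x := degree (χ : G → ℂ) with hx
  set e := idx P with he
  have hp2 : 2 ≤ p := (Fact.out : p.Prime).two_le
  -- restriction to the normalizer stays irreducible when the support is small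
  have hirr : ∀ ψ : Cfsg.IrrCharacter G, 2 * (h.supp (ψ : G → ℂ)).card ≤ p →
      Cfsg.IsIrrCharacter (nor P) (fun n : nor P => (ψ : G → ℂ) n) := by
    intro ψ hψ
    refine IsCharacter.isIrrCharacter_of_classInner_self
      (IsCharacter.restrict (IsIrrCharacter.isCharacter ψ.2) (nor P)) ?_
    rw [← LatticeFix.classInner_self_eq h hP (IsIrrCharacter.isCharacter ψ.2) hψ]
    exact classInner_irr_self ψ.2
  -- so such a character has no fixed vectors and one orbit
  obtain ⟨a, ha, ha1⟩ := hnK χ hχ1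
  have hAx := h.card_supp_le hχ
  obtain ⟨h1A, hAe, hweight⟩ := h.supp_eq_orbit hχ (hirr χ (by omega)) ha ha1
  have he1 : 1 ≤ e := Nat.pos_of_ne_zero Subgroup.FiniteIndex.index_ne_zero
  obtain ⟨j, hj⟩ : e ∣ p - 1 := by rw [← hP]; exact h.idx_dvd
  have hj3 : 3 ≤ j := by
    by_contra hlt
    have : e * j ≤ e * 2 := Nat.mul_le_mul_left _ (by omega)
    omega
  -- a constituent of the norm character with fixed vectors
  obtain ⟨ψ₀, hψ₀1, hψ₀P, hψ₀m, hψ₀z⟩ := h.exists_constituent χ hx2
  set θ := normChar (χ : G → ℂ) with hθdef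
  have hθ := isCharacter_normChar hχ
  obtain ⟨m, hm⟩ := IsCharacter.exists_nat_combination hθ
  have hmc : ∀ φ : Cfsg.IrrCharacter G, Cfsg.classInner θ (φ : G → ℂ) = (m φ : ℂ) := fun φ => by
    rw [hθdef, hm, classInner_sum_smul_irr (fun φ => (m φ : ℂ))]
  have hresN : (fun n : nor P => θ n) =
      ∑ φ : Cfsg.IrrCharacter G, (m φ : ℂ) • fun n : nor P => (φ : G → ℂ) n := by
    funext n
    have := congrFun hm (n : G)
    simpa using this
  by_cases hsmall : 4 * e ≤ p + 2
  · exact absurd (h.degree_le_one_of_norm hP hK χ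
      (LatticeFix.classInner_norm_eq h hP hχ (by rw [hAe]; exact hsmall))) (by omega)
  -- now `p = 3 * e + 1`
  have hj3' : j = 3 := by
    by_contra hne
    have : e * 4 ≤ e * j := Nat.mul_le_mul_left _ (by omega)
    omega
  subst hj3'
  have hp3 : p = 3 * e + 1 := by omega
  have he2 : 2 ≤ e := by omega
  have heven : Even e := by
    rcases (Fact.out : p.Prime).eq_two_or_odd with h2 | hodd
    · omega
    · exact Nat.even_iff.2 (by omega)
  have hxe : x = e := by
    have h1 := h.sum_weight hχ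
    rw [Finset.sum_congr rfl hweight, Finset.sum_const, hAe, smul_eq_mul, ← he, ← hx] at h1
    rcases Nat.lt_or_ge (h.weight (χ : G → ℂ) a) 2 with h2 | h2
    · have h3 : h.weight (χ : G → ℂ) a ≠ 0 := (h.weight_pos_iff hχ a).2 ha
      rw [← h1, show h.weight (χ : G → ℂ) a = 1 by omega, mul_one]
    · have : e * 2 ≤ e * h.weight (χ : G → ℂ) a := Nat.mul_le_mul_left _ h2
      omega
  have hfull : degree (χ : G → ℂ) ≤ (h.supp (χ : G → ℂ)).card := by omega
  have hfix : ∀ (φ : Cfsg.IrrCharacter G) (η : Cfsg.IrrCharacter (cen P)), m φ ≠ 0 →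
      h.lam η = 1 → η ≠ oneCen → mult (φ : G → ℂ) η = 0 := by
    intro φ η hφ h1 h2
    have h3 := h.mult_normChar_eq_zero hχ hfull η h1 h2
    have e0 : (fun c : cen P => θ c) =
        ∑ φ : Cfsg.IrrCharacter G, (m φ : ℂ) • fun c : cen P => (φ : G → ℂ) c := by
      funext c
      have := congrFun hm (c : G)
      simpa using this
    have h4 := mult_cast hθ η
    rw [h3, e0, classInner_sum_left] at h4
    simp only [classInner_smul_left,
      ← mult_cast (IsIrrCharacter.isCharacter (Subtype.prop _))] at h4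
    have h5 : ∑ φ : Cfsg.IrrCharacter G, m φ * mult (φ : G → ℂ) η = 0 := by
      exact_mod_cast h4.symm
    exact (mul_eq_zero.1 ((Finset.sum_eq_zero_iff.1 h5) φ (Finset.mem_univ _))).resolve_left hφ
  set a₁ : Cfsg.IrrCharacter G → ℕ := fun φ => mult (φ : G → ℂ) (oneCen (P := P)) with ha₁
  have hw1 : ∀ φ : Cfsg.IrrCharacter G, m φ ≠ 0 → h.weight (φ : G → ℂ) 1 = a₁ φ := by
    intro φ hφ
    rw [Uniform.weight, Finset.sum_eq_single (oneCen (P := P))]
    · have : degree ((oneCen : Cfsg.IrrCharacter (cen P)) : cen P → ℂ) = 1 := by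
        simp [degree, oneCen]
      simp [wt, this, ha₁]
    · intro η hη hne
      simp [wt, hfix φ η hφ (Finset.mem_filter.1 hη).2 hne]
    · intro hn
      exact absurd (by simp [h.lam_oneCen]) hn
  -- multiplicities of constituents with fixed vectors are one
  have hm1 : ∀ φ : Cfsg.IrrCharacter G, m φ ≠ 0 → a₁ φ ≠ 0 → m φ = 1 := by
    intro φ hφ hφa
    have hr := IsCharacter.restrict (IsIrrCharacter.isCharacter φ.2) (nor P)
    obtain ⟨k, hk⟩ := IsCharacter.exists_nat_combination hr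
    -- a constituent over the principal character of the centralizer
    obtain ⟨ν, hν, hνC⟩ : ∃ ν : Cfsg.IrrCharacter (nor P), k ν ≠ 0 ∧
        Cfsg.classInner (fun c : cen P => (ν : nor P → ℂ) ⟨c, h.cen_le_nor c.2⟩)
          ((oneCen : Cfsg.IrrCharacter (cen P)) : cen P → ℂ) ≠ 0 := by
      by_contra hcon
      push Not at hcon
      have e0 : (fun c : cen P => (φ : G → ℂ) c) = ∑ ν : Cfsg.IrrCharacter (nor P),
          (k ν : ℂ) • fun c : cen P => (ν : nor P → ℂ) ⟨c, h.cen_le_nor c.2⟩ := by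
        funext c
        have := congrFun hk ⟨c, h.cen_le_nor c.2⟩
        simpa using this
      have h4 := mult_cast (IsIrrCharacter.isCharacter φ.2) (oneCen (P := P))
      rw [e0, classInner_sum_left, Finset.sum_eq_zero] at h4
      · exact hφa (by exact_mod_cast h4)
      · intro ν _
        rw [classInner_smul_left]
        by_cases hk0 : k ν = 0
        · simp [hk0]
        · rw [hcon ν hk0, mul_zero]
    obtain ⟨r, τ, hτ, hτc⟩ := ν.2
    have hC : ∀ c : cen P, τ ⟨c, h.cen_le_nor c.2⟩ = 1 := by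
      by_contra hcon
      push Not at hcon
      obtain ⟨c, hc⟩ := hcon
      haveI : ((cen P).subgroupOf (nor P)).Normal := ⟨fun n hn g => by
        rw [Subgroup.mem_subgroupOf] at hn ⊢
        have := h.conj_mem_cen (x := ((g⁻¹ : nor P) : G)) (g⁻¹).2 hn
        simpa using this⟩
      have h0 := CharKernel.fixedSpace_eq_bot τ ((cen P).subgroupOf (nor P))
        ⟨⟨c, h.cen_le_nor c.2⟩, c.2, hc⟩
      refine hνC ?_
      let τC : Representation ℂ (cen P) (Fin r → ℂ) :=
        τ.comp (Subgroup.inclusion h.cen_le_nor)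
      have e1 : (fun c : cen P => (ν : nor P → ℂ) ⟨c, h.cen_le_nor c.2⟩) = τC.character := by
        rw [← hτc]; rfl
      have e2 : ((oneCen : Cfsg.IrrCharacter (cen P)) : cen P → ℂ) =
          (Representation.trivial ℂ (cen P) ℂ).character := by
        funext c
        simp [oneCen, Representation.character]
      rw [e1, e2, classInner_character, Nat.cast_eq_zero, Module.finrank_eq_zero_iff_of_free]
      refine ⟨fun f g => ?_⟩
      have hf : ∀ f : Representation.IntertwiningMap (Representation.trivial ℂ (cen P) ℂ) τC,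
          ∀ z, f z = 0 := by
        intro f z
        have : f z ∈ CharKernel.fixedSpace τ ((cen P).subgroupOf (nor P)) := by
          rw [CharKernel.mem_fixedSpace]
          intro n hn
          have := (f.isIntertwining _ _ ⟨(n : G), hn⟩ z).symm
          simp [τC] at this
          exact this
        rw [h0, Submodule.mem_bot] at this
        exact this
      exact DFunLike.ext _ _ fun z => (hf f z).trans (hf g z).symm
    have hνlin : (ν : nor P → ℂ) 1 = 1 := by
      have hcomm : ∀ x y : nor P, τ x * τ y = τ y * τ x := by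
        intro x y
        have hc := h.comm_nor hP x y
        have h1 := hC ⟨_, hc⟩
        have e0 : x * y = (x * y * x⁻¹ * y⁻¹) * (y * x) := by group
        rw [← map_mul, e0, map_mul, h1, one_mul, map_mul]
      haveI := hτ
      have hsc : ∀ g, ∃ z : ℂ, τ g = z • LinearMap.id := fun g =>
        exists_scalar_of_commute τ (τ g) fun y => hcomm g y
      haveI := CharKernel.nontrivial_of_irreducible τ
      obtain ⟨v, hv⟩ := exists_ne (0 : Fin r → ℂ)
      rcases CharKernel.eq_bot_or_eq_top τ (ℂ ∙ v) (fun g w hw => by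
        obtain ⟨z, hz⟩ := hsc g
        rw [hz]
        simpa using Submodule.smul_mem _ z hw) with h1 | h1
      · exact absurd (Submodule.span_singleton_eq_bot.1 h1) hv
      · have h2 := congrArg (fun W : Submodule ℂ (Fin r → ℂ) => Module.finrank ℂ W) h1
        simp only [finrank_span_singleton hv, finrank_top] at h2
        rw [← hτc, Representation.char_one, ← h2, Nat.cast_one]
    obtain ⟨f, hf⟩ := IsCharacter.exists_linear (IsIrrCharacter.isCharacter ν.2) hνlin
    have hχN := hirr χ (by omega)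
    have hle : ∃ i : ℕ, i ≤ 1 ∧
        Cfsg.classInner (fun n : nor P => θ n) (ν : nor P → ℂ) = (i : ℂ) := by
      have e1 : Cfsg.classInner (fun n : nor P => θ n) (ν : nor P → ℂ) =
          Cfsg.classInner (fun n : nor P => (χ : G → ℂ) n)
            (fun n : nor P => (f n : ℂ) * (χ : G → ℂ) n) := by
        simp only [Cfsg.classInner, hθdef, normChar, hf, map_mul]
        refine congrArg _ (Finset.sum_congr rfl fun n _ => ?_)
        ring
      rw [e1, classInner_irr hχN (IsIrrCharacter.linear_mul hχN f)]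
      split_ifs
      · exact ⟨1, le_rfl, Nat.cast_one.symm⟩
      · exact ⟨0, Nat.zero_le _, Nat.cast_zero.symm⟩
    obtain ⟨i, hi, hi'⟩ := hle
    rw [hresN, classInner_sum_left] at hi'
    choose l hl using fun φ' : Cfsg.IrrCharacter G => IsCharacter.exists_nat_classInner
      (IsCharacter.restrict (IsIrrCharacter.isCharacter φ'.2) (nor P)) ν.2
    simp only [classInner_smul_left, hl] at hi'
    have h2 : ∑ φ' : Cfsg.IrrCharacter G, m φ' * l φ' = i := by exact_mod_cast hi'
    have h3 : l φ ≠ 0 := by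
      have := hl φ
      rw [hk, classInner_sum_smul_irr (fun ν => (k ν : ℂ))] at this
      intro h0
      rw [h0] at this
      exact hν (by exact_mod_cast this)
    have h4 : m φ * l φ ≤ i := h2 ▸ Finset.single_le_sum
      (f := fun φ' => m φ' * l φ') (fun _ _ => Nat.zero_le _) (Finset.mem_univ φ)
    have h5 : m φ ≤ m φ * l φ := Nat.le_mul_of_pos_right _ (Nat.pos_of_ne_zero h3)
    omega
  -- the set of constituents with fixed vectors
  set S := Finset.univ.filter (fun φ : Cfsg.IrrCharacter G =>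
    φ ≠ principalIrr ∧ m φ ≠ 0 ∧ a₁ φ ≠ 0) with hS
  set B := {b : (P : Subgroup G) →* ℂˣ // b ≠ 1}
  haveI : Finite ((P : Subgroup G) →* ℂˣ) :=
    Nat.finite_of_card_ne_zero (by rw [h.card_hom]; exact Nat.card_pos.ne')
  letI : Fintype ((P : Subgroup G) →* ℂˣ) := Fintype.ofFinite _
  have hB : Fintype.card B = 3 * e := by
    rw [Fintype.card_subtype_compl, Fintype.card_subtype_eq, ← Nat.card_eq_fintype_card, h.card_hom,
      hP]
    omega
  have hwθ : h.weight θ 1 = e := by
    have h1 : (h.weight θ 1 : ℂ) = ((∑ η : Cfsg.IrrCharacter (cen P),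
        ∑ μ : Cfsg.IrrCharacter (cen P), wt (χ : G → ℂ) η * wt (χ : G → ℂ) μ *
          if h.lam η * (h.lam μ)⁻¹ = 1 then 1 else 0 : ℕ) : ℂ) := by
      rw [h.weight_cast hθ, h.classInner_normChar hχ]
      push_cast
      rfl
    have h2 := Nat.cast_inj.1 h1
    rw [h2]
    have h3 : ∀ η : Cfsg.IrrCharacter (cen P), (∑ μ : Cfsg.IrrCharacter (cen P),
        wt (χ : G → ℂ) η * wt (χ : G → ℂ) μ * if h.lam η * (h.lam μ)⁻¹ = 1 then 1 else 0) =
          wt (χ : G → ℂ) η * h.weight (χ : G → ℂ) (h.lam η) := by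
      intro η
      rw [Uniform.weight, Finset.mul_sum, Finset.sum_filter]
      refine Finset.sum_congr rfl fun μ _ => ?_
      have : h.lam η * (h.lam μ)⁻¹ = 1 ↔ h.lam μ = h.lam η :=
        ⟨fun e0 => MonoidHom.ext fun s => by
          have := DFunLike.congr_fun e0 s
          simp only [MonoidHom.mul_apply, MonoidHom.inv_apply, MonoidHom.one_apply,
            mul_inv_eq_one] at this
          exact this.symm,
         fun e0 => MonoidHom.ext fun s => by simp [e0]⟩
      split_ifs with h6 h7 h7 <;> simp_all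
    rw [Finset.sum_congr rfl fun η _ => h3 η, ← hxe, hx, ← sum_wt (P := P) hχ]
    refine Finset.sum_congr rfl fun η _ => ?_
    by_cases h0 : mult (χ : G → ℂ) η = 0
    · simp [wt, h0]
    · rw [hweight _ (h.mem_supp.2 ⟨η, h0, rfl⟩)]
      have h1 := h.sum_weight hχ
      rw [Finset.sum_congr rfl hweight, Finset.sum_const, hAe, smul_eq_mul, ← hx, hxe] at h1
      rw [(mul_eq_left₀ (by omega : e ≠ 0)).1 h1, mul_one]
  have hpr : a₁ principalIrr = 1 ∧ degree ((principalIrr : Cfsg.IrrCharacter G) : G → ℂ) = 1 ∧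
      m principalIrr = 1 := by
    have hd : degree ((principalIrr : Cfsg.IrrCharacter G) : G → ℂ) = 1 := by simp [degree]
    have hm1' : m principalIrr = 1 := by
      have h2 : Cfsg.classInner θ ((principalIrr : Cfsg.IrrCharacter G) : G → ℂ) = 1 := by
        rw [← classInner_irr_self χ.2]
        simp [Cfsg.classInner, hθdef, normChar]
      rw [hmc] at h2
      exact_mod_cast h2
    refine ⟨?_, hd, hm1'⟩
    have := mult_cast (IsIrrCharacter.isCharacter (principalIrr : Cfsg.IrrCharacter G).2)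
      (oneCen (P := P))
    have e0 : (fun c : cen P => ((principalIrr : Cfsg.IrrCharacter G) : G → ℂ) (c : G)) =
        ((oneCen : Cfsg.IrrCharacter (cen P)) : cen P → ℂ) := by funext c; simp [oneCen]
    rw [e0, classInner_irr_self (oneCen : Cfsg.IrrCharacter (cen P)).2] at this
    exact_mod_cast this
  have hsumw : ∑ φ : Cfsg.IrrCharacter G, m φ * h.weight (φ : G → ℂ) 1 = h.weight θ 1 := by
    have e0 : (fun s : (P : Subgroup G) => θ (s : G)) =
        ∑ φ : Cfsg.IrrCharacter G, (m φ : ℂ) • fun s : (P : Subgroup G) => (φ : G → ℂ) (s : G) := by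
      funext s
      have := congrFun hm (s : G)
      simpa using this
    have h4 := h.weight_cast hθ 1
    rw [e0, classInner_sum_left] at h4
    simp only [classInner_smul_left,
      ← h.weight_cast (IsIrrCharacter.isCharacter (Subtype.prop _))] at h4
    exact_mod_cast h4.symm
  have hsumA : ∑ φ ∈ S, (a₁ φ : ℤ) = (e : ℤ) - 1 := by
    have h1 : ∑ φ ∈ S, a₁ φ + 1 = e := by
      conv_rhs => rw [← hwθ, ← hsumw, ← Finset.sum_erase_add _ _
        (Finset.mem_univ (principalIrr : Cfsg.IrrCharacter G))]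
      congr 1
      · rw [← Finset.sum_subset (s₁ := S)
          (fun φ hφ => Finset.mem_erase.2 ⟨(Finset.mem_filter.1 hφ).2.1, Finset.mem_univ _⟩)
          fun φ hφ hφS => ?_]
        · refine Finset.sum_congr rfl fun φ hφ => ?_
          obtain ⟨-, -, hm0, ha0⟩ := Finset.mem_filter.1 hφ
          rw [hw1 φ hm0, hm1 φ hm0 ha0, one_mul]
        · rcases eq_or_ne (m φ) 0 with h0 | h0
          · simp [h0]
          · rw [hw1 φ h0]
            rcases eq_or_ne (a₁ φ) 0 with h00 | h00
            · simp [h00]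
            · exact absurd (Finset.mem_filter.2
                ⟨Finset.mem_univ _, (Finset.mem_erase.1 hφ).1, h0, h00⟩) hφS
      · rw [hw1 principalIrr (by rw [hpr.2.2]; exact one_ne_zero), hpr.1, hpr.2.2]
    have h2 : (∑ φ ∈ S, (a₁ φ : ℤ)) + 1 = (e : ℤ) := by exact_mod_cast h1
    linarith
  have hdegθ : degree θ = e * e := by
    have h2 : θ 1 = ((e * e : ℕ) : ℂ) := by
      rw [hθdef]
      simp only [normChar]
      rw [← IsCharacter.degree_cast hχ, ← hx, hxe, Complex.conj_natCast, Nat.cast_mul]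
    have h1 : (degree θ : ℂ) = θ 1 := IsCharacter.degree_cast hθ
    rw [h2] at h1
    exact_mod_cast h1
  have hsumdeg : ∑ φ : Cfsg.IrrCharacter G, m φ * degree (φ : G → ℂ) = degree θ := by
    have h1 : θ 1 = _ := congrFun hm 1
    rw [← (IsCharacter.degree_cast hθ : (degree θ : ℂ) = θ 1)] at h1
    simp only [Finset.sum_apply, Pi.smul_apply, smul_eq_mul,
      ← IsCharacter.degree_cast (IsIrrCharacter.isCharacter (Subtype.prop _))] at h1
    exact_mod_cast h1.symm
  have hale : ∀ φ ∈ S, a₁ φ + ∑ b : B, mult (φ : G → ℂ) (h.extIrr b.1) ≤ degree (φ : G → ℂ) := by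
    intro φ _
    rw [← sum_wt (P := P) (IsIrrCharacter.isCharacter φ.2)]
    have hinj : Function.Injective fun b : B => h.extIrr b.1 := fun b b' e0 =>
      Subtype.ext (by rw [← h.lam_extIrr b.1, ← h.lam_extIrr b'.1]; exact congrArg h.lam e0)
    have hnot : oneCen ∉ Finset.univ.image fun b : B => h.extIrr b.1 := fun hmem => by
      obtain ⟨b, -, hb⟩ := Finset.mem_image.1 hmem
      exact h.extIrr_ne_one b.2 hb
    refine le_trans ?_ (Finset.sum_le_sum_of_subset (Finset.subset_univ
      (insert (oneCen (P := P)) (Finset.univ.image fun b : B => h.extIrr b.1))))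
    rw [Finset.sum_insert hnot, Finset.sum_image hinj.injOn]
    refine Nat.add_le_add ?_ (Finset.sum_le_sum fun b _ => ?_) <;>
      exact Nat.le_mul_of_pos_right _ (IsIrrCharacter.degree_pos (Subtype.prop _))
  refine counting_false (B := B) e heven he2 hB S (fun φ => (a₁ φ : ℤ))
    (fun φ => (degree (φ : G → ℂ) : ℤ) - a₁ φ)
    (fun φ b => (mult (φ : G → ℂ) (h.extIrr b.1) : ℤ))
    (fun φ hφ => by exact_mod_cast Nat.pos_of_ne_zero (Finset.mem_filter.1 hφ).2.2.2) ?_
    (fun φ _ b => Int.natCast_nonneg _) ?_ hsumA ?_ ?_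
  · intro φ hφ
    obtain ⟨-, hφ1, hm0, ha0⟩ := Finset.mem_filter.1 hφ
    have hc := IsIrrCharacter.isCharacter φ.2
    have h1 : (1 : (P : Subgroup G) →* ℂˣ) ∈ h.supp (φ : G → ℂ) :=
      (h.weight_pos_iff hc 1).1 (by rw [hw1 φ hm0]; exact ha0)
    obtain ⟨b, hb, hb1⟩ := hnK φ hφ1
    rcases (h.idx_le hc hb hb1).2 with heq | hge
    · exfalso
      rw [Finset.card_erase_of_mem h1] at heq
      exact (h.supp_eq_orbit hc (hirr φ (by omega)) hb hb1).1 h1
    · have h2 : a₁ φ + ((h.supp (φ : G → ℂ)).erase 1).card ≤ degree (φ : G → ℂ) := by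
        rw [← h.sum_weight hc, ← Finset.sum_erase_add _ _ h1, hw1 φ hm0, add_comm]
        refine Nat.add_le_add_right ?_ _
        rw [Finset.card_eq_sum_ones]
        exact Finset.sum_le_sum fun c hc' =>
          Nat.pos_of_ne_zero ((h.weight_pos_iff hc c).2 (Finset.mem_of_mem_erase hc'))
      omega
  · intro φ hφ
    have h1 := hale φ hφ
    have h2 : (a₁ φ : ℤ) + ∑ b : B, (mult (φ : G → ℂ) (h.extIrr b.1) : ℤ) ≤
        degree (φ : G → ℂ) := by exact_mod_cast h1
    linarith
  · have h1 : ∑ φ ∈ S, degree (φ : G → ℂ) + 1 ≤ e * e := by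
      rw [← hdegθ, ← hsumdeg, ← Finset.sum_erase_add _ _
        (Finset.mem_univ (principalIrr : Cfsg.IrrCharacter G)), hpr.2.1, hpr.2.2, one_mul]
      refine Nat.add_le_add_right (le_trans (le_of_eq (Finset.sum_congr rfl fun φ hφ => ?_))
        (Finset.sum_le_sum_of_subset
          (fun φ hφ => Finset.mem_erase.2 ⟨(Finset.mem_filter.1 hφ).2.1, Finset.mem_univ _⟩))) 1
      obtain ⟨-, -, hm0, ha0⟩ := Finset.mem_filter.1 hφ
      rw [hm1 φ hm0 ha0, one_mul]
    have h2 : ∑ φ ∈ S, (degree (φ : G → ℂ) : ℤ) + 1 ≤ (e : ℤ) * e := by exact_mod_cast h1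
    rw [Finset.sum_sub_distrib, hsumA]
    nlinarith
  · intro b
    obtain ⟨hpar, φ₁, hφ₁, hφ₁pos⟩ := h.coefAt_spec b.2
    have hterm : ∀ φ : Cfsg.IrrCharacter G,
        ((a₁ φ : ℤ) - mult (φ : G → ℂ) (h.extIrr b.1)) ^ 2 = h.coefAt b.1 φ ^ 2 := fun φ => by
      simp only [Uniform.coefAt, ha₁]; ring
    simp only [hterm]
    have hSsub : S ⊆ Finset.univ.erase (principalIrr : Cfsg.IrrCharacter G) := fun φ hφ =>
      Finset.mem_erase.2 ⟨(Finset.mem_filter.1 hφ).2.1, Finset.mem_univ _⟩
    have hpos : ∀ φ : Cfsg.IrrCharacter G, 0 < h.coefAt b.1 φ ↔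
        (a₁ φ : ℤ) < mult (φ : G → ℂ) (h.extIrr b.1) := fun φ => by
      simp only [Uniform.coefAt, ha₁]; omega
    have hs2 : ∑ φ ∈ S, h.coefAt b.1 φ ^ 2 ≤ (e : ℤ) := by
      rw [← hpar]
      exact Finset.sum_le_sum_of_subset_of_nonneg hSsub (fun _ _ _ => sq_nonneg _)
    rw [Finset.sum_sub_distrib]
    by_cases hin : φ₁ ∈ S
    · have : (1 : ℤ) ≤ ∑ φ ∈ S,
          (if (a₁ φ : ℤ) < mult (φ : G → ℂ) (h.extIrr b.1) then 1 else 0) := by
        refine le_trans ?_ (Finset.single_le_sum (fun _ _ => by split_ifs <;> norm_num) hin)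
        rw [if_pos ((hpos φ₁).1 hφ₁pos)]
      linarith
    · have h3 : ∑ φ ∈ insert φ₁ S, h.coefAt b.1 φ ^ 2 ≤ (e : ℤ) := by
        rw [← hpar]
        refine Finset.sum_le_sum_of_subset_of_nonneg ?_ (fun _ _ _ => sq_nonneg _)
        exact Finset.insert_subset (Finset.mem_erase.2 ⟨hφ₁, Finset.mem_univ _⟩) hSsub
      rw [Finset.sum_insert hin] at h3
      have : (0 : ℤ) ≤ ∑ φ ∈ S,
          (if (a₁ φ : ℤ) < mult (φ : G → ℂ) (h.extIrr b.1) then 1 else 0) :=
        Finset.sum_nonneg fun _ _ => by split_ifs <;> norm_num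
      nlinarith

/-- An irreducible character of degree less than `(p - 1) / 2` is linear. -/
theorem Uniform.degree_le_one (h : Uniform P) (hP : Nat.card (P : Subgroup G) = p)
    (hK : ∀ K : Subgroup G, K.Normal → K ≠ ⊤ → ¬ (P : Subgroup G) ≤ K)
    (χ : Cfsg.IrrCharacter G) (hdeg : 2 * degree (χ : G → ℂ) + 1 < p) :
    degree (χ : G → ℂ) ≤ 1 :=
  h.degree_le_one_of_half hP hK χ hdeg.le (Or.inl hdeg)

end CfsgLib.SmallDegree
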