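import Cfsg.Agent.Lib.Char.CentralOver
import Cfsg.Agent.Lib.Char.Virtual
import Mathlib.GroupTheory.SchurZassenhaus
import Mathlib.GroupTheory.Transfer

/-!
# A Sylow subgroup all of whose nontrivial elements have one centralizer

Restriction of characters to the centralizer, grouped by the character of the central
Sylow subgroup.
-/

set_option autoImplicit false

open scoped ComplexConjugate Classical

namespace CfsgLib.SmallDegree

universe u

variable {G : Type u} [Group G] [Fintype G] {p : ℕ} [Fact p.Prime] (P : Sylow p G)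

/-- All nontrivial elements of `P` have the centralizer of `P`. -/
def Uniform : Prop :=
  ∀ x ∈ (P : Subgroup G), x ≠ 1 →
    Subgroup.centralizer ({x} : Set G) = Subgroup.centralizer ((P : Subgroup G) : Set G)

/-- The centralizer of `P`. -/
abbrev cen : Subgroup G := Subgroup.centralizer ((P : Subgroup G) : Set G)

/-- The normalizer of `P`. -/
abbrev nor : Subgroup G := Subgroup.normalizer ((P : Subgroup G) : Set G)

variable {P}

theorem Uniform.le_cen (h : Uniform P) : (P : Subgroup G) ≤ cen P := by
  intro x hx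
  by_cases h1 : x = 1
  · rw [h1]; exact one_mem _
  · rw [cen, ← h x hx h1, Subgroup.mem_centralizer_singleton_iff]

/-- The inclusion of `P` in its centralizer. -/
def Uniform.incl (h : Uniform P) : (P : Subgroup G) →* cen P := Subgroup.inclusion h.le_cen

@[simp]
theorem Uniform.coe_incl (h : Uniform P) (s : (P : Subgroup G)) : ((h.incl s : cen P) : G) = s :=
  rfl

theorem Uniform.incl_central (h : Uniform P) (s : (P : Subgroup G)) :
    h.incl s ∈ Subgroup.center (cen P) := by
  rw [Subgroup.mem_center_iff]
  intro c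
  exact Subtype.ext (Subgroup.mem_centralizer_iff.1 c.2 s s.2).symm

theorem Uniform.cen_le_nor (h : Uniform P) : cen P ≤ nor P := by
  intro c hc
  rw [nor, Subgroup.mem_normalizer_iff]
  intro x
  constructor
  · intro hx
    have := Subgroup.mem_centralizer_iff.1 hc x hx
    rw [show c * x * c⁻¹ = x from by rw [← this, mul_inv_cancel_right]]
    exact hx
  · intro hx
    have h2 := Subgroup.mem_centralizer_iff.1 hc _ hx
    have hxe : c * x * c⁻¹ = x := by
      have h3 : c * (c * x * c⁻¹) = c * x := by rw [← h2, inv_mul_cancel_right]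
      exact mul_left_cancel h3
    exact hxe ▸ hx

/-- An element carrying a nontrivial element of `P` into `P` normalizes `P`. -/
theorem Uniform.mem_nor (h : Uniform P) {x g : G} (hx : x ∈ (P : Subgroup G)) (hx1 : x ≠ 1)
    (hgx : g * x * g⁻¹ ∈ (P : Subgroup G)) : g ∈ nor P := by
  have hy1 : g * x * g⁻¹ ≠ 1 := fun e => hx1 (by simpa [mul_inv_eq_one] using e)
  have key : ∀ c : G, c ∈ cen P ↔ g * c * g⁻¹ ∈ cen P := by
    intro c
    conv_lhs => rw [cen, ← h x hx hx1]
    rw [cen, ← h _ hgx hy1, Subgroup.mem_centralizer_singleton_iff,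
      Subgroup.mem_centralizer_singleton_iff]
    constructor
    · intro hc
      calc g * c * g⁻¹ * (g * x * g⁻¹) = g * (c * x) * g⁻¹ := by group
        _ = g * (x * c) * g⁻¹ := by rw [hc]
        _ = g * x * g⁻¹ * (g * c * g⁻¹) := by group
    · intro hc
      have h2 : g * (c * x) * g⁻¹ = g * (x * c) * g⁻¹ := by
        calc g * (c * x) * g⁻¹ = g * c * g⁻¹ * (g * x * g⁻¹) := by group
          _ = g * x * g⁻¹ * (g * c * g⁻¹) := hc
          _ = g * (x * c) * g⁻¹ := by group
      simpa using h2
  -- the conjugate of `P` is a `p`-subgroup of the centralizer, so lies in `P`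
  have hle : (P : Subgroup G).map (MulAut.conj g).toMonoidHom ≤ (P : Subgroup G) := by
    have hp : IsPGroup p ((P : Subgroup G).map (MulAut.conj g).toMonoidHom) :=
      P.2.map _
    have hc : (P : Subgroup G).map (MulAut.conj g).toMonoidHom ≤ cen P := by
      rintro _ ⟨y, hy, rfl⟩
      exact (key y).1 (h.le_cen hy)
    have hsup : IsPGroup p (((P : Subgroup G).map (MulAut.conj g).toMonoidHom) ⊔
        (P : Subgroup G) : Subgroup G) :=
      hp.to_sup_of_normal_right' P.2 (le_trans hc h.cen_le_nor)
    exact le_trans le_sup_left (P.3 hsup le_sup_right).le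
  have heq : (P : Subgroup G).map (MulAut.conj g).toMonoidHom = (P : Subgroup G) :=
    Subgroup.eq_of_le_of_card_ge hle
      (Nat.card_congr ((P : Subgroup G).equivMapOfInjective _
        (MulAut.conj g).injective).toEquiv).le
  rw [nor, Subgroup.mem_normalizer_iff]
  intro y
  constructor
  · exact fun hy => hle ⟨y, hy, rfl⟩
  · intro hy
    obtain ⟨z, hz, hzy⟩ : g * y * g⁻¹ ∈
        (P : Subgroup G).map (MulAut.conj g).toMonoidHom := by rw [heq]; exact hy
    have : z = y := (MulAut.conj g).injective hzy
    exact this ▸ hz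

/-- A complement of `P` in its centralizer. -/
theorem Uniform.exists_compl (h : Uniform P) : ∃ V : Subgroup (cen P),
    V.IsComplement' h.incl.range ∧ ¬ p ∣ Nat.card V := by
  have : h.incl.range.Normal := ⟨by
    rintro _ ⟨s, rfl⟩ c
    refine ⟨s, ?_⟩
    rw [(Subgroup.mem_center_iff.1 (h.incl_central s) c), mul_inv_cancel_right]⟩
  have hr : h.incl.range = (P.subtype h.le_cen : Sylow p (cen P)).1 := by
    ext c
    constructor
    · rintro ⟨s, rfl⟩; exact s.2
    · intro hc; exact ⟨⟨c, hc⟩, Subtype.ext rfl⟩
  have hco : Nat.Coprime (Nat.card h.incl.range) h.incl.range.index := by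
    rw [hr]
    exact (P.subtype h.le_cen : Sylow p (cen P)).card_coprime_index
  obtain ⟨V, hV⟩ := Subgroup.exists_left_complement'_of_coprime hco
  refine ⟨V, hV, fun hd => ?_⟩
  have hidx : h.incl.range.index = Nat.card V := hV.index_eq_card
  have := (P.subtype h.le_cen : Sylow p (cen P)).not_dvd_index
  rw [← hr, hidx] at this
  exact this hd

/-- The chosen complement of `P` in its centralizer. -/
noncomputable def Uniform.V (h : Uniform P) : Subgroup (cen P) := h.exists_compl.choose

theorem Uniform.V_compl (h : Uniform P) : h.V.IsComplement' h.incl.range :=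
  h.exists_compl.choose_spec.1

theorem Uniform.V_coprime (h : Uniform P) : ¬ p ∣ Nat.card h.V :=
  h.exists_compl.choose_spec.2

theorem Uniform.incl_injective (h : Uniform P) : Function.Injective h.incl :=
  Subgroup.inclusion_injective _

/-- Every element of the centralizer is uniquely a product from `V` and `P`. -/
noncomputable def Uniform.prodEquiv (h : Uniform P) : h.V × (P : Subgroup G) ≃ cen P :=
  ((Equiv.refl _).prodCongr (MonoidHom.ofInjective h.incl_injective).toEquiv).trans
    (Equiv.ofBijective (fun x : h.V × h.incl.range => (x.1 : cen P) * x.2) h.V_compl)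

@[simp]
theorem Uniform.prodEquiv_apply (h : Uniform P) (v : h.V) (s : (P : Subgroup G)) :
    h.prodEquiv (v, s) = (v : cen P) * h.incl s := rfl

/-- The power by `|V|` of an element outside `V` is a nontrivial element of `P`. -/
theorem Uniform.pow_mem (h : Uniform P) (c : cen P) (hc : c ∉ h.V) :
    (c : G) ^ Nat.card h.V ∈ (P : Subgroup G) ∧ (c : G) ^ Nat.card h.V ≠ 1 := by
  obtain ⟨⟨v, s⟩, rfl⟩ := h.prodEquiv.surjective c
  have hs : s ≠ 1 := fun e => hc (by simp [e])
  have hcomm : Commute (v : cen P) (h.incl s) :=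
    Subgroup.mem_center_iff.1 (h.incl_central s) _
  have hv : (v : cen P) ^ Nat.card h.V = 1 := by
    have := pow_card_eq_one' (x := v)
    rw [← SubmonoidClass.coe_pow, this, OneMemClass.coe_one]
  have e : ((h.prodEquiv (v, s) : cen P) : G) ^ Nat.card h.V =
      (((s ^ Nat.card h.V : (P : Subgroup G))) : G) := by
    rw [← SubmonoidClass.coe_pow, h.prodEquiv_apply, hcomm.mul_pow, hv, one_mul, ← map_pow]
    rfl
  rw [e]
  refine ⟨SetLike.coe_mem _, fun h1 => hs ?_⟩
  have h1' : s ^ Nat.card h.V = 1 := Subtype.ext h1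
  obtain ⟨k, hk⟩ := P.2.exists_card_eq (p := p)
  have hco : Nat.Coprime (Nat.card h.V) (Nat.card (P : Subgroup G)) := by
    rw [hk]
    exact Nat.Coprime.pow_right _
      (((Fact.out : p.Prime).coprime_iff_not_dvd.2 h.V_coprime).symm)
  exact (Nat.Coprime.pow_left_bijective (G := (P : Subgroup G)) hco.symm).injective
    (show s ^ Nat.card h.V = 1 ^ Nat.card h.V by rw [one_pow, h1'])

/-- Elements of the centralizer outside `V` are fused only by the normalizer. -/
theorem Uniform.mem_nor_of_conj (h : Uniform P) (c d : cen P) (hc : c ∉ h.V) (hd : d ∉ h.V)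
    {g : G} (e : g * (c : G) * g⁻¹ = d) : g ∈ nor P := by
  refine h.mem_nor (h.pow_mem c hc).1 (h.pow_mem c hc).2 ?_
  rw [← conj_pow, e]
  exact (h.pow_mem d hd).1

/-- The sum of a nonnegative class function over the centralizer outside `V`. -/
theorem Uniform.card_mul_sum_le (h : Uniform P) (f : G → ℝ) (hf : ∀ g x, f (g * x * g⁻¹) = f x)
    (hf0 : ∀ x, 0 ≤ f x) :
    (Nat.card G : ℝ) * ∑ c ∈ Finset.univ.filter (fun c : cen P => c ∉ h.V), f c ≤
      (Nat.card (nor P) : ℝ) * ∑ x ∈ Finset.univ.erase (1 : G), f x := by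
  set S := Finset.univ.filter (fun c : cen P => c ∉ h.V) with hS
  set F := fun z : G × cen P => z.1 * (z.2 : G) * z.1⁻¹ with hF
  have hmaps : ∀ z ∈ Finset.univ ×ˢ S, F z ∈ Finset.univ.erase (1 : G) := by
    intro z hz
    refine Finset.mem_erase.2 ⟨fun e => ?_, Finset.mem_univ _⟩
    have hz2 : z.2 ∉ h.V := (Finset.mem_filter.1 (Finset.mem_product.1 hz).2).2
    refine hz2 ?_
    have : (z.2 : G) = 1 := by simpa [hF, mul_inv_eq_one] using e
    rw [show z.2 = 1 from Subtype.ext this]
    exact one_mem _
  have hfib : ∀ x ∈ Finset.univ.erase (1 : G),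
      (((Finset.univ ×ˢ S).filter (fun z => F z = x)).card : ℝ) ≤ Nat.card (nor P) := by
    intro x _
    rcases ((Finset.univ ×ˢ S).filter (fun z => F z = x)).eq_empty_or_nonempty with he | ⟨z₀, hz₀⟩
    · rw [he]; simp
    · simp only [Finset.mem_filter, Finset.mem_product, hS, Finset.mem_univ, true_and] at hz₀
      have hle : ((Finset.univ ×ˢ S).filter (fun z => F z = x)).card ≤
          (Finset.univ.filter (fun g : G => g ∈ nor P)).card := by
        refine Finset.card_le_card_of_injOn (fun z => z₀.1⁻¹ * z.1) ?_ ?_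
        · intro z hz
          simp only [Finset.coe_filter, Finset.mem_product, hS, Finset.mem_filter,
            Finset.mem_univ, true_and, Set.mem_setOf_eq] at hz ⊢
          refine h.mem_nor_of_conj z.2 z₀.2 hz.1 hz₀.1 ?_
          have e := hz.2.trans hz₀.2.symm
          simp only [hF] at e
          calc z₀.1⁻¹ * z.1 * (z.2 : G) * (z₀.1⁻¹ * z.1)⁻¹
              = z₀.1⁻¹ * (z.1 * (z.2 : G) * z.1⁻¹) * z₀.1 := by group
            _ = z₀.1⁻¹ * (z₀.1 * (z₀.2 : G) * z₀.1⁻¹) * z₀.1 := by rw [e]
            _ = (z₀.2 : G) := by group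
        · intro z hz z' hz' e
          simp only [Finset.coe_filter, Set.mem_setOf_eq] at hz hz'
          have e1 : z.1 = z'.1 := mul_left_cancel e
          refine Prod.ext e1 (Subtype.ext ?_)
          have e2 := hz.2.trans hz'.2.symm
          simp only [hF, e1] at e2
          simpa using e2
      refine le_trans (Nat.cast_le.2 hle) (le_of_eq ?_)
      rw [Nat.card_eq_fintype_card, Fintype.card_subtype]
  calc (Nat.card G : ℝ) * ∑ c ∈ S, f c
      = ∑ z ∈ Finset.univ ×ˢ S, f (F z) := by
        simp only [hF, hf, Finset.sum_product, Finset.sum_const, nsmul_eq_mul, Finset.card_univ,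
          Nat.card_eq_fintype_card]
    _ = ∑ x ∈ Finset.univ.erase (1 : G),
          ((((Finset.univ ×ˢ S).filter (fun z => F z = x)).card : ℝ) * f x) := by
        rw [← Finset.sum_fiberwise_of_maps_to hmaps]
        refine Finset.sum_congr rfl fun x _ => ?_
        rw [Finset.sum_congr rfl (fun z hz => by rw [(Finset.mem_filter.1 hz).2]),
          Finset.sum_const, nsmul_eq_mul]
    _ ≤ ∑ x ∈ Finset.univ.erase (1 : G), (Nat.card (nor P) : ℝ) * f x :=
        Finset.sum_le_sum fun x hx => mul_le_mul_of_nonneg_right (hfib x hx) (hf0 x)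
    _ = _ := (Finset.mul_sum _ _ _).symm

end CfsgLib.SmallDegree
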